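import Cfsg.Agent.Lib.H35.TCMSzA.Data
import Cfsg.Agent.Lib.H35.TCIdx
set_option autoImplicit false
set_option maxRecDepth 100000
set_option linter.all false
namespace H35.TCMSzA
open H35.TC
/-- letters -/
inductive Lt | a | ai | b | bi | c | ci | d | di | t | ti | T | Ti | z | zi
  deriving DecidableEq
/-- inverse letter -/
def inv : Lt → Lt
  | .a => .ai
  | .ai => .a
  | .b => .bi
  | .bi => .b
  | .c => .ci
  | .ci => .c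
  | .d => .di
  | .di => .d
  | .t => .ti
  | .ti => .t
  | .T => .Ti
  | .Ti => .T
  | .z => .zi
  | .zi => .z
/-- table functions -/
noncomputable def T : Lt → ℕ → ℕ
  | .a => T_a
  | .ai => T_ai
  | .b => T_b
  | .bi => T_bi
  | .c => T_c
  | .ci => T_ci
  | .d => T_d
  | .di => T_di
  | .t => T_t
  | .ti => T_ti
  | .T => T_T
  | .Ti => T_Ti
  | .z => T_z
  | .zi => T_zi
/-- decoding of letter codes -/
def lt : ℕ → Lt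
  | 0 => .a
  | 1 => .ai
  | 2 => .b
  | 3 => .bi
  | 4 => .c
  | 5 => .ci
  | 6 => .d
  | 7 => .di
  | 8 => .t
  | 9 => .ti
  | 10 => .T
  | 11 => .Ti
  | 12 => .z
  | _ => .zi
/-- Coxeter matrix (0: no relation) -/
def mm : Lt → Lt → ℕ
  | _, _ => 0
/-- extra relators `w ^ n` -/
def extra : List (List Lt × ℕ) := [
  ([.z, .T, .zi, .Ti], 1),
  ([.z, .t, .zi, .ti], 1),
  ([.z, .d, .zi, .di], 1),
  ([.z, .c, .zi, .ci], 1),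
  ([.z, .b, .zi, .bi], 1),
  ([.z, .a, .zi, .ai], 1),
  ([.z], 4),
  ([.T, .ti, .T, .t, .Ti, .t], 1),
  ([.a, .b, .ai, .b, .a, .bi], 1),
  ([.a, .c, .a, .ci, .ai, .ci], 1),
  ([.ai, .c, .Ti, .ci, .a, .T], 1),
  ([.t, .T, .d, .Ti, .ti, .d], 1),
  ([.d, .t, .a, .ti, .di, .a], 1),
  ([.d, .ai, .d, .a, .di, .a], 1),
  ([.c, .d, .c, .di, .ci, .di], 1),
  ([.bi, .t, .di, .ti, .b, .t], 1),
  ([.bi, .t, .b, .ti, .b, .d], 1),
  ([.b, .ci, .t, .c, .bi, .ti], 1),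
  ([.b, .c, .T, .ci, .bi, .Ti], 1),
  ([.ai, .ci, .Ti, .c, .a, .T], 1),
  ([.T, .ti, .b, .a, .b, .c, .t, .ai, .c, .d, .b, .T, .ti, .b, .a, .b, .c, .t, .ai, .c, .d, .b, .T, .ti, .b, .a, .b, .c, .t, .ai, .c, .d, .b, .T, .ti, .b, .a, .b, .c, .t, .ai, .c, .d, .b, .zi], 1),
  ([.a, .ai], 1),
  ([.ai, .a], 1),
  ([.b, .bi], 1),
  ([.bi, .b], 1),
  ([.c, .ci], 1),
  ([.ci, .c], 1),
  ([.d, .di], 1),
  ([.di, .d], 1),
  ([.t, .ti], 1),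
  ([.ti, .t], 1),
  ([.T, .Ti], 1),
  ([.Ti, .T], 1),
  ([.z, .zi], 1),
  ([.zi, .z], 1)]
/-- relators -/
def rels : List (List Lt) := mkRels [] mm extra
/-- subgroup words -/
def subs : List (List Lt) := [
  [.a],
  [.b],
  [.c],
  [.d],
  [.t]]
noncomputable def dp_a_0 (j u : ℕ) : Bool :=
  Bool.rec (motive := fun _ => Bool) (lF [T_di, T_a, T_d, T_ai, T_d] M (Nat.sub (T_a u) (Nat.mod (T_a u) M)) (Nat.mod (T_a u) M) u) (lS MG [T_ai] M (Nat.sub (T_a u) (Nat.mod (T_a u) M)) (nat_lit 40) (Nat.mod (T_a u) M) u) (Nat.ble (nat_lit 7) j)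
noncomputable def dp_a_1 (j u : ℕ) : Bool :=
  Bool.rec (motive := fun _ => Bool) (lF [T_ti, T_di, T_a, T_d, T_t] M (Nat.sub (T_a u) (Nat.mod (T_a u) M)) (Nat.mod (T_a u) M) u) (dp_a_0 j u) (Nat.ble (nat_lit 6) j)
noncomputable def dp_a_2 (j u : ℕ) : Bool :=
  Bool.rec (motive := fun _ => Bool) (lF [T_b, T_ai, T_b, T_a, T_bi] M (Nat.sub (T_a u) (Nat.mod (T_a u) M)) (Nat.mod (T_a u) M) u) (lF [T_ci, T_ai, T_ci, T_a, T_c] M (Nat.sub (T_a u) (Nat.mod (T_a u) M)) (Nat.mod (T_a u) M) u) (Nat.ble (nat_lit 10) j)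
noncomputable def dp_a_3 (j u : ℕ) : Bool :=
  Bool.rec (motive := fun _ => Bool) (lF [T_c, T_a, T_ci, T_ai, T_ci] M (Nat.sub (T_a u) (Nat.mod (T_a u) M)) (Nat.mod (T_a u) M) u) (dp_a_2 j u) (Nat.ble (nat_lit 9) j)
noncomputable def dp_a_4 (j u : ℕ) : Bool :=
  Bool.rec (motive := fun _ => Bool) (lF [T_T, T_ai, T_c, T_Ti, T_ci] M (Nat.sub (T_a u) (Nat.mod (T_a u) M)) (Nat.mod (T_a u) M) u) (lF [T_bi, T_a, T_b, T_ai, T_b] M (Nat.sub (T_a u) (Nat.mod (T_a u) M)) (Nat.mod (T_a u) M) u) (Nat.ble (nat_lit 13) j)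
noncomputable def dp_a_5 (j u : ℕ) : Bool :=
  Bool.rec (motive := fun _ => Bool) (lF [T_d, T_t, T_a, T_ti, T_di] M (Nat.sub (T_a u) (Nat.mod (T_a u) M)) (Nat.mod (T_a u) M) u) (dp_a_4 j u) (Nat.ble (nat_lit 12) j)
noncomputable def dp_a_6 (j u : ℕ) : Bool :=
  Bool.rec (motive := fun _ => Bool) (dp_a_3 j u) (dp_a_5 j u) (Nat.ble (nat_lit 11) j)
noncomputable def dp_a_7 (j u : ℕ) : Bool :=
  Bool.rec (motive := fun _ => Bool) (lF [T_bi, T_ai, T_b, T_ai, T_bi] M (Nat.sub (T_a u) (Nat.mod (T_a u) M)) (Nat.mod (T_a u) M) u) (lF [T_di, T_ai, T_d, T_ai, T_di] M (Nat.sub (T_a u) (Nat.mod (T_a u) M)) (Nat.mod (T_a u) M) u) (Nat.ble (nat_lit 15) j)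
noncomputable def dp_a_8 (j u : ℕ) : Bool :=
  Bool.rec (motive := fun _ => Bool) (lF [T_d, T_ai, T_d, T_a, T_di] M (Nat.sub (T_a u) (Nat.mod (T_a u) M)) (Nat.mod (T_a u) M) u) (lF [T_c, T_ai, T_ci, T_ai, T_c] M (Nat.sub (T_a u) (Nat.mod (T_a u) M)) (Nat.mod (T_a u) M) u) (Nat.ble (nat_lit 17) j)
noncomputable def dp_a_9 (j u : ℕ) : Bool :=
  Bool.rec (motive := fun _ => Bool) (dp_a_7 j u) (dp_a_8 j u) (Nat.ble (nat_lit 16) j)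
noncomputable def dp_a_10 (j u : ℕ) : Bool :=
  Bool.rec (motive := fun _ => Bool) (lF [T_T, T_ai, T_ci, T_Ti, T_c] M (Nat.sub (T_a u) (Nat.mod (T_a u) M)) (Nat.mod (T_a u) M) u) (lF [T_Ti, T_ai, T_ci, T_T, T_c] M (Nat.sub (T_a u) (Nat.mod (T_a u) M)) (Nat.mod (T_a u) M) u) (Nat.ble (nat_lit 20) j)
noncomputable def dp_a_11 (j u : ℕ) : Bool :=
  Bool.rec (motive := fun _ => Bool) (lF [T_Ti, T_ai, T_c, T_T, T_ci] M (Nat.sub (T_a u) (Nat.mod (T_a u) M)) (Nat.mod (T_a u) M) u) (dp_a_10 j u) (Nat.ble (nat_lit 19) j)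
noncomputable def dp_a_12 (j u : ℕ) : Bool :=
  Bool.rec (motive := fun _ => Bool) (lS MG [T_c, T_a, T_ci, T_ai, T_ci] M (Nat.sub (T_a u) (Nat.mod (T_a u) M)) (nat_lit 40) (Nat.mod (T_a u) M) u) (lS MG [T_bi, T_ai, T_b, T_ai, T_bi] M (Nat.sub (T_a u) (Nat.mod (T_a u) M)) (nat_lit 40) (Nat.mod (T_a u) M) u) (Nat.ble (nat_lit 22) j)
noncomputable def dp_a_13 (j u : ℕ) : Bool :=
  Bool.rec (motive := fun _ => Bool) (lS MG [T_c, T_ai, T_ci, T_ai, T_c] M (Nat.sub (T_a u) (Nat.mod (T_a u) M)) (nat_lit 40) (Nat.mod (T_a u) M) u) (lS MG [T_b, T_ai, T_b, T_a, T_bi] M (Nat.sub (T_a u) (Nat.mod (T_a u) M)) (nat_lit 40) (Nat.mod (T_a u) M) u) (Nat.ble (nat_lit 25) j)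
noncomputable def dp_a_14 (j u : ℕ) : Bool :=
  Bool.rec (motive := fun _ => Bool) (lS MG [T_d, T_ai, T_d, T_a, T_di] M (Nat.sub (T_a u) (Nat.mod (T_a u) M)) (nat_lit 40) (Nat.mod (T_a u) M) u) (dp_a_13 j u) (Nat.ble (nat_lit 24) j)
noncomputable def dp_a_15 (j u : ℕ) : Bool :=
  Bool.rec (motive := fun _ => Bool) (dp_a_12 j u) (dp_a_14 j u) (Nat.ble (nat_lit 23) j)
noncomputable def dp_a_16 (j u : ℕ) : Bool :=
  Bool.rec (motive := fun _ => Bool) (lS MG [T_ci, T_ai, T_ci, T_a, T_c] M (Nat.sub (T_a u) (Nat.mod (T_a u) M)) (nat_lit 40) (Nat.mod (T_a u) M) u) (lS MG [T_di, T_a, T_d, T_ai, T_d] M (Nat.sub (T_a u) (Nat.mod (T_a u) M)) (nat_lit 40) (Nat.mod (T_a u) M) u) (Nat.ble (nat_lit 27) j)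
noncomputable def dp_a_17 (j u : ℕ) : Bool :=
  Bool.rec (motive := fun _ => Bool) (lS MG [T_zi, T_ai, T_z] M (Nat.sub (T_a u) (Nat.mod (T_a u) M)) (nat_lit 40) (Nat.mod (T_a u) M) u) (lS MG [T_ti, T_di, T_a, T_d, T_t] M (Nat.sub (T_a u) (Nat.mod (T_a u) M)) (nat_lit 40) (Nat.mod (T_a u) M) u) (Nat.ble (nat_lit 29) j)
noncomputable def dp_a_18 (j u : ℕ) : Bool :=
  Bool.rec (motive := fun _ => Bool) (dp_a_16 j u) (dp_a_17 j u) (Nat.ble (nat_lit 28) j)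
noncomputable def dp_a_19 (j u : ℕ) : Bool :=
  Bool.rec (motive := fun _ => Bool) (lS MG [T_T, T_ai, T_c, T_Ti, T_ci] M (Nat.sub (T_a u) (Nat.mod (T_a u) M)) (nat_lit 40) (Nat.mod (T_a u) M) u) (lS MG [T_bi, T_a, T_b, T_ai, T_b] M (Nat.sub (T_a u) (Nat.mod (T_a u) M)) (nat_lit 40) (Nat.mod (T_a u) M) u) (Nat.ble (nat_lit 32) j)
noncomputable def dp_a_20 (j u : ℕ) : Bool :=
  Bool.rec (motive := fun _ => Bool) (lS MG [T_di, T_ai, T_d, T_ai, T_di] M (Nat.sub (T_a u) (Nat.mod (T_a u) M)) (nat_lit 40) (Nat.mod (T_a u) M) u) (dp_a_19 j u) (Nat.ble (nat_lit 31) j)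
noncomputable def dp_a_21 (j u : ℕ) : Bool :=
  Bool.rec (motive := fun _ => Bool) (lS MG [T_z, T_ai, T_zi] M (Nat.sub (T_a u) (Nat.mod (T_a u) M)) (nat_lit 40) (Nat.mod (T_a u) M) u) (lS MG [T_Ti, T_ai, T_ci, T_T, T_c] M (Nat.sub (T_a u) (Nat.mod (T_a u) M)) (nat_lit 40) (Nat.mod (T_a u) M) u) (Nat.ble (nat_lit 34) j)
noncomputable def dp_a_22 (j u : ℕ) : Bool :=
  Bool.rec (motive := fun _ => Bool) (lH [] [] M (Nat.sub (T_a u) (Nat.mod (T_a u) M)) (Nat.mod (T_a u) M) u) (lS MG [T_T, T_ai, T_ci, T_Ti, T_c] M (Nat.sub (T_a u) (Nat.mod (T_a u) M)) (nat_lit 40) (Nat.mod (T_a u) M) u) (Nat.ble (nat_lit 38) j)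
noncomputable def dp_a_23 (j u : ℕ) : Bool :=
  Bool.rec (motive := fun _ => Bool) (lS MG [T_d, T_t, T_a, T_ti, T_di] M (Nat.sub (T_a u) (Nat.mod (T_a u) M)) (nat_lit 40) (Nat.mod (T_a u) M) u) (dp_a_22 j u) (Nat.ble (nat_lit 37) j)
noncomputable def dp_a_24 (j u : ℕ) : Bool :=
  Bool.rec (motive := fun _ => Bool) (lS MG [T_Ti, T_ai, T_c, T_T, T_ci] M (Nat.sub (T_a u) (Nat.mod (T_a u) M)) (nat_lit 40) (Nat.mod (T_a u) M) u) (dp_a_23 j u) (Nat.ble (nat_lit 36) j)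
noncomputable def dp_a_25 (j u : ℕ) : Bool :=
  Bool.rec (motive := fun _ => Bool) (dp_a_21 j u) (dp_a_24 j u) (Nat.ble (nat_lit 35) j)
noncomputable def dp_a_26 (j u : ℕ) : Bool :=
  Bool.rec (motive := fun _ => Bool) (dp_a_20 j u) (dp_a_25 j u) (Nat.ble (nat_lit 33) j)
noncomputable def dp_a_27 (j u : ℕ) : Bool :=
  Bool.rec (motive := fun _ => Bool) (dp_a_18 j u) (dp_a_26 j u) (Nat.ble (nat_lit 30) j)
noncomputable def dp_a_28 (j u : ℕ) : Bool :=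
  Bool.rec (motive := fun _ => Bool) (dp_a_15 j u) (dp_a_27 j u) (Nat.ble (nat_lit 26) j)
noncomputable def dp_a_29 (j u : ℕ) : Bool :=
  Bool.rec (motive := fun _ => Bool) (dp_a_11 j u) (dp_a_28 j u) (Nat.ble (nat_lit 21) j)
noncomputable def dp_a_30 (j u : ℕ) : Bool :=
  Bool.rec (motive := fun _ => Bool) (dp_a_9 j u) (dp_a_29 j u) (Nat.ble (nat_lit 18) j)
noncomputable def dp_a_31 (j u : ℕ) : Bool :=
  Bool.rec (motive := fun _ => Bool) (dp_a_6 j u) (dp_a_30 j u) (Nat.ble (nat_lit 14) j)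
noncomputable def dp_a_32 (j u : ℕ) : Bool :=
  Bool.rec (motive := fun _ => Bool) (Bool.rec (motive := fun _ => Bool) (lDef P (nat_lit 1) u (Nat.mod (T_a u) M)) (Bool.rec (motive := fun _ => Bool) (lDef P (nat_lit 0) (Nat.mod (T_a u) M) u) (dp_a_1 j u) (Nat.ble (nat_lit 5) j)) (Nat.ble (nat_lit 4) j)) (dp_a_31 j u) (Nat.ble (nat_lit 8) j)
noncomputable def disp_a (j u : ℕ) : Bool :=
  Bool.rec (motive := fun _ => Bool) (Bool.rec (motive := fun _ => Bool) (lF1 T_ai M (Nat.sub (T_a u) (Nat.mod (T_a u) M)) (Nat.mod (T_a u) M) u) (Bool.rec (motive := fun _ => Bool) (lF3 T_zi T_ai T_z M (Nat.sub (T_a u) (Nat.mod (T_a u) M)) (Nat.mod (T_a u) M) u) (lF3 T_z T_ai T_zi M (Nat.sub (T_a u) (Nat.mod (T_a u) M)) (Nat.mod (T_a u) M) u) (Nat.ble (nat_lit 2) j)) (Nat.ble (nat_lit 1) j)) (dp_a_32 j u) (Nat.ble (nat_lit 3) j)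
noncomputable def chk_a (j u : ℕ) : Bool :=
  Bool.rec (motive := fun _ => Bool) (disp_a j u) (Nat.ble (Nat.succ (MG u)) A) (Nat.ble A (T_a u))
noncomputable def dp_ai_0 (j u : ℕ) : Bool :=
  Bool.rec (motive := fun _ => Bool) (lDef P (nat_lit 0) u (Nat.mod (T_ai u) M)) (lF [T_ti, T_di, T_ai, T_d, T_t] M (Nat.sub (T_ai u) (Nat.mod (T_ai u) M)) (Nat.mod (T_ai u) M) u) (Nat.ble (nat_lit 5) j)
noncomputable def dp_ai_1 (j u : ℕ) : Bool :=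
  Bool.rec (motive := fun _ => Bool) (lF [T_d, T_ai, T_di, T_a, T_di] M (Nat.sub (T_ai u) (Nat.mod (T_ai u) M)) (Nat.mod (T_ai u) M) u) (lF [T_ci, T_ai, T_c, T_a, T_c] M (Nat.sub (T_ai u) (Nat.mod (T_ai u) M)) (Nat.mod (T_ai u) M) u) (Nat.ble (nat_lit 8) j)
noncomputable def dp_ai_2 (j u : ℕ) : Bool :=
  Bool.rec (motive := fun _ => Bool) (lF [T_c, T_a, T_c, T_ai, T_ci] M (Nat.sub (T_ai u) (Nat.mod (T_ai u) M)) (Nat.mod (T_ai u) M) u) (dp_ai_1 j u) (Nat.ble (nat_lit 7) j)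
noncomputable def dp_ai_3 (j u : ℕ) : Bool :=
  Bool.rec (motive := fun _ => Bool) (lS MG [T_a] M (Nat.sub (T_ai u) (Nat.mod (T_ai u) M)) (nat_lit 40) (Nat.mod (T_ai u) M) u) (lF [T_ci, T_a, T_c, T_a, T_ci] M (Nat.sub (T_ai u) (Nat.mod (T_ai u) M)) (Nat.mod (T_ai u) M) u) (Nat.ble (nat_lit 11) j)
noncomputable def dp_ai_4 (j u : ℕ) : Bool :=
  Bool.rec (motive := fun _ => Bool) (lF [T_b, T_ai, T_bi, T_a, T_bi] M (Nat.sub (T_ai u) (Nat.mod (T_ai u) M)) (Nat.mod (T_ai u) M) u) (dp_ai_3 j u) (Nat.ble (nat_lit 10) j)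
noncomputable def dp_ai_5 (j u : ℕ) : Bool :=
  Bool.rec (motive := fun _ => Bool) (lF [T_di, T_a, T_di, T_ai, T_d] M (Nat.sub (T_ai u) (Nat.mod (T_ai u) M)) (Nat.mod (T_ai u) M) u) (lF [T_c, T_T, T_ci, T_a, T_Ti] M (Nat.sub (T_ai u) (Nat.mod (T_ai u) M)) (Nat.mod (T_ai u) M) u) (Nat.ble (nat_lit 13) j)
noncomputable def dp_ai_6 (j u : ℕ) : Bool :=
  Bool.rec (motive := fun _ => Bool) (lF [T_d, T_a, T_di, T_a, T_d] M (Nat.sub (T_ai u) (Nat.mod (T_ai u) M)) (Nat.mod (T_ai u) M) u) (lF [T_c, T_Ti, T_ci, T_a, T_T] M (Nat.sub (T_ai u) (Nat.mod (T_ai u) M)) (Nat.mod (T_ai u) M) u) (Nat.ble (nat_lit 16) j)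
noncomputable def dp_ai_7 (j u : ℕ) : Bool :=
  Bool.rec (motive := fun _ => Bool) (lF [T_bi, T_a, T_bi, T_ai, T_b] M (Nat.sub (T_ai u) (Nat.mod (T_ai u) M)) (Nat.mod (T_ai u) M) u) (dp_ai_6 j u) (Nat.ble (nat_lit 15) j)
noncomputable def dp_ai_8 (j u : ℕ) : Bool :=
  Bool.rec (motive := fun _ => Bool) (dp_ai_5 j u) (dp_ai_7 j u) (Nat.ble (nat_lit 14) j)
noncomputable def dp_ai_9 (j u : ℕ) : Bool :=
  Bool.rec (motive := fun _ => Bool) (lF [T_b, T_a, T_bi, T_a, T_b] M (Nat.sub (T_ai u) (Nat.mod (T_ai u) M)) (Nat.mod (T_ai u) M) u) (lF [T_ci, T_T, T_c, T_a, T_Ti] M (Nat.sub (T_ai u) (Nat.mod (T_ai u) M)) (Nat.mod (T_ai u) M) u) (Nat.ble (nat_lit 18) j)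
noncomputable def dp_ai_10 (j u : ℕ) : Bool :=
  Bool.rec (motive := fun _ => Bool) (lF [T_ci, T_Ti, T_c, T_a, T_T] M (Nat.sub (T_ai u) (Nat.mod (T_ai u) M)) (Nat.mod (T_ai u) M) u) (lF [T_d, T_t, T_ai, T_ti, T_di] M (Nat.sub (T_ai u) (Nat.mod (T_ai u) M)) (Nat.mod (T_ai u) M) u) (Nat.ble (nat_lit 20) j)
noncomputable def dp_ai_11 (j u : ℕ) : Bool :=
  Bool.rec (motive := fun _ => Bool) (dp_ai_9 j u) (dp_ai_10 j u) (Nat.ble (nat_lit 19) j)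
noncomputable def dp_ai_12 (j u : ℕ) : Bool :=
  Bool.rec (motive := fun _ => Bool) (lS MG [T_c, T_a, T_c, T_ai, T_ci] M (Nat.sub (T_ai u) (Nat.mod (T_ai u) M)) (nat_lit 40) (Nat.mod (T_ai u) M) u) (lS MG [T_ci, T_ai, T_c, T_a, T_c] M (Nat.sub (T_ai u) (Nat.mod (T_ai u) M)) (nat_lit 40) (Nat.mod (T_ai u) M) u) (Nat.ble (nat_lit 22) j)
noncomputable def dp_ai_13 (j u : ℕ) : Bool :=
  Bool.rec (motive := fun _ => Bool) (lS MG [T_c, T_Ti, T_ci, T_a, T_T] M (Nat.sub (T_ai u) (Nat.mod (T_ai u) M)) (nat_lit 40) (Nat.mod (T_ai u) M) u) (lS MG [T_ti, T_di, T_ai, T_d, T_t] M (Nat.sub (T_ai u) (Nat.mod (T_ai u) M)) (nat_lit 40) (Nat.mod (T_ai u) M) u) (Nat.ble (nat_lit 25) j)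
noncomputable def dp_ai_14 (j u : ℕ) : Bool :=
  Bool.rec (motive := fun _ => Bool) (lS MG [T_b, T_ai, T_bi, T_a, T_bi] M (Nat.sub (T_ai u) (Nat.mod (T_ai u) M)) (nat_lit 40) (Nat.mod (T_ai u) M) u) (dp_ai_13 j u) (Nat.ble (nat_lit 24) j)
noncomputable def dp_ai_15 (j u : ℕ) : Bool :=
  Bool.rec (motive := fun _ => Bool) (dp_ai_12 j u) (dp_ai_14 j u) (Nat.ble (nat_lit 23) j)
noncomputable def dp_ai_16 (j u : ℕ) : Bool :=
  Bool.rec (motive := fun _ => Bool) (lS MG [T_b, T_a, T_bi, T_a, T_b] M (Nat.sub (T_ai u) (Nat.mod (T_ai u) M)) (nat_lit 40) (Nat.mod (T_ai u) M) u) (lS MG [T_di, T_a, T_di, T_ai, T_d] M (Nat.sub (T_ai u) (Nat.mod (T_ai u) M)) (nat_lit 40) (Nat.mod (T_ai u) M) u) (Nat.ble (nat_lit 27) j)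
noncomputable def dp_ai_17 (j u : ℕ) : Bool :=
  Bool.rec (motive := fun _ => Bool) (lS MG [T_z, T_a, T_zi] M (Nat.sub (T_ai u) (Nat.mod (T_ai u) M)) (nat_lit 40) (Nat.mod (T_ai u) M) u) (lS MG [T_ci, T_a, T_c, T_a, T_ci] M (Nat.sub (T_ai u) (Nat.mod (T_ai u) M)) (nat_lit 40) (Nat.mod (T_ai u) M) u) (Nat.ble (nat_lit 29) j)
noncomputable def dp_ai_18 (j u : ℕ) : Bool :=
  Bool.rec (motive := fun _ => Bool) (dp_ai_16 j u) (dp_ai_17 j u) (Nat.ble (nat_lit 28) j)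
noncomputable def dp_ai_19 (j u : ℕ) : Bool :=
  Bool.rec (motive := fun _ => Bool) (lS MG [T_ci, T_Ti, T_c, T_a, T_T] M (Nat.sub (T_ai u) (Nat.mod (T_ai u) M)) (nat_lit 40) (Nat.mod (T_ai u) M) u) (lS MG [T_zi, T_a, T_z] M (Nat.sub (T_ai u) (Nat.mod (T_ai u) M)) (nat_lit 40) (Nat.mod (T_ai u) M) u) (Nat.ble (nat_lit 32) j)
noncomputable def dp_ai_20 (j u : ℕ) : Bool :=
  Bool.rec (motive := fun _ => Bool) (lS MG [T_bi, T_a, T_bi, T_ai, T_b] M (Nat.sub (T_ai u) (Nat.mod (T_ai u) M)) (nat_lit 40) (Nat.mod (T_ai u) M) u) (dp_ai_19 j u) (Nat.ble (nat_lit 31) j)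
noncomputable def dp_ai_21 (j u : ℕ) : Bool :=
  Bool.rec (motive := fun _ => Bool) (lS MG [T_ci, T_T, T_c, T_a, T_Ti] M (Nat.sub (T_ai u) (Nat.mod (T_ai u) M)) (nat_lit 40) (Nat.mod (T_ai u) M) u) (lS MG [T_c, T_T, T_ci, T_a, T_Ti] M (Nat.sub (T_ai u) (Nat.mod (T_ai u) M)) (nat_lit 40) (Nat.mod (T_ai u) M) u) (Nat.ble (nat_lit 34) j)
noncomputable def dp_ai_22 (j u : ℕ) : Bool :=
  Bool.rec (motive := fun _ => Bool) (lS MG [T_d, T_t, T_ai, T_ti, T_di] M (Nat.sub (T_ai u) (Nat.mod (T_ai u) M)) (nat_lit 40) (Nat.mod (T_ai u) M) u) (lS MG [T_d, T_ai, T_di, T_a, T_di] M (Nat.sub (T_ai u) (Nat.mod (T_ai u) M)) (nat_lit 40) (Nat.mod (T_ai u) M) u) (Nat.ble (nat_lit 37) j)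
noncomputable def dp_ai_23 (j u : ℕ) : Bool :=
  Bool.rec (motive := fun _ => Bool) (lS MG [T_d, T_a, T_di, T_a, T_d] M (Nat.sub (T_ai u) (Nat.mod (T_ai u) M)) (nat_lit 40) (Nat.mod (T_ai u) M) u) (dp_ai_22 j u) (Nat.ble (nat_lit 36) j)
noncomputable def dp_ai_24 (j u : ℕ) : Bool :=
  Bool.rec (motive := fun _ => Bool) (dp_ai_21 j u) (dp_ai_23 j u) (Nat.ble (nat_lit 35) j)
noncomputable def dp_ai_25 (j u : ℕ) : Bool :=
  Bool.rec (motive := fun _ => Bool) (dp_ai_20 j u) (dp_ai_24 j u) (Nat.ble (nat_lit 33) j)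
noncomputable def dp_ai_26 (j u : ℕ) : Bool :=
  Bool.rec (motive := fun _ => Bool) (dp_ai_18 j u) (dp_ai_25 j u) (Nat.ble (nat_lit 30) j)
noncomputable def dp_ai_27 (j u : ℕ) : Bool :=
  Bool.rec (motive := fun _ => Bool) (dp_ai_15 j u) (dp_ai_26 j u) (Nat.ble (nat_lit 26) j)
noncomputable def dp_ai_28 (j u : ℕ) : Bool :=
  Bool.rec (motive := fun _ => Bool) (dp_ai_11 j u) (dp_ai_27 j u) (Nat.ble (nat_lit 21) j)
noncomputable def dp_ai_29 (j u : ℕ) : Bool :=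
  Bool.rec (motive := fun _ => Bool) (dp_ai_8 j u) (dp_ai_28 j u) (Nat.ble (nat_lit 17) j)
noncomputable def dp_ai_30 (j u : ℕ) : Bool :=
  Bool.rec (motive := fun _ => Bool) (Bool.rec (motive := fun _ => Bool) (dp_ai_2 j u) (dp_ai_4 j u) (Nat.ble (nat_lit 9) j)) (dp_ai_29 j u) (Nat.ble (nat_lit 12) j)
noncomputable def disp_ai (j u : ℕ) : Bool :=
  Bool.rec (motive := fun _ => Bool) (Bool.rec (motive := fun _ => Bool) (lF1 T_a M (Nat.sub (T_ai u) (Nat.mod (T_ai u) M)) (Nat.mod (T_ai u) M) u) (lF3 T_zi T_a T_z M (Nat.sub (T_ai u) (Nat.mod (T_ai u) M)) (Nat.mod (T_ai u) M) u) (Nat.ble (nat_lit 1) j)) (Bool.rec (motive := fun _ => Bool) (Bool.rec (motive := fun _ => Bool) (Bool.rec (motive := fun _ => Bool) (lDef P (nat_lit 1) (Nat.mod (T_ai u) M) u) (lF3 T_z T_a T_zi M (Nat.sub (T_ai u) (Nat.mod (T_ai u) M)) (Nat.mod (T_ai u) M) u) (Nat.ble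 (nat_lit 3) j)) (dp_ai_0 j u) (Nat.ble (nat_lit 4) j)) (dp_ai_30 j u) (Nat.ble (nat_lit 6) j)) (Nat.ble (nat_lit 2) j)
noncomputable def chk_ai (j u : ℕ) : Bool :=
  Bool.rec (motive := fun _ => Bool) (disp_ai j u) (Nat.ble (Nat.succ (MG u)) A) (Nat.ble A (T_ai u))
noncomputable def dp_b_0 (j u : ℕ) : Bool :=
  Bool.rec (motive := fun _ => Bool) (lF [T_c, T_T, T_ci, T_bi, T_Ti] M (Nat.sub (T_b u) (Nat.mod (T_b u) M)) (Nat.mod (T_b u) M) u) (lF [T_ti, T_b, T_d, T_bi, T_t] M (Nat.sub (T_b u) (Nat.mod (T_b u) M)) (Nat.mod (T_b u) M) u) (Nat.ble (nat_lit 7) j)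
noncomputable def dp_b_1 (j u : ℕ) : Bool :=
  Bool.rec (motive := fun _ => Bool) (lF [T_d, T_bi, T_t, T_b, T_ti] M (Nat.sub (T_b u) (Nat.mod (T_b u) M)) (Nat.mod (T_b u) M) u) (dp_b_0 j u) (Nat.ble (nat_lit 6) j)
noncomputable def dp_b_2 (j u : ℕ) : Bool :=
  Bool.rec (motive := fun _ => Bool) (lF [T_t, T_bi, T_t, T_di, T_ti] M (Nat.sub (T_b u) (Nat.mod (T_b u) M)) (Nat.mod (T_b u) M) u) (lF [T_a, T_bi, T_a, T_b, T_ai] M (Nat.sub (T_b u) (Nat.mod (T_b u) M)) (Nat.mod (T_b u) M) u) (Nat.ble (nat_lit 9) j)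
noncomputable def dp_b_3 (j u : ℕ) : Bool :=
  Bool.rec (motive := fun _ => Bool) (lF [T_ai, T_b, T_a, T_bi, T_a] M (Nat.sub (T_b u) (Nat.mod (T_b u) M)) (Nat.mod (T_b u) M) u) (lF [T_c, T_Ti, T_ci, T_bi, T_T] M (Nat.sub (T_b u) (Nat.mod (T_b u) M)) (Nat.mod (T_b u) M) u) (Nat.ble (nat_lit 11) j)
noncomputable def dp_b_4 (j u : ℕ) : Bool :=
  Bool.rec (motive := fun _ => Bool) (dp_b_2 j u) (dp_b_3 j u) (Nat.ble (nat_lit 10) j)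
noncomputable def dp_b_5 (j u : ℕ) : Bool :=
  Bool.rec (motive := fun _ => Bool) (lF [T_ci, T_t, T_c, T_bi, T_ti] M (Nat.sub (T_b u) (Nat.mod (T_b u) M)) (Nat.mod (T_b u) M) u) (lF [T_ti, T_bi, T_t, T_d, T_ti] M (Nat.sub (T_b u) (Nat.mod (T_b u) M)) (Nat.mod (T_b u) M) u) (Nat.ble (nat_lit 14) j)
noncomputable def dp_b_6 (j u : ℕ) : Bool :=
  Bool.rec (motive := fun _ => Bool) (lF [T_ci, T_ti, T_c, T_bi, T_t] M (Nat.sub (T_b u) (Nat.mod (T_b u) M)) (Nat.mod (T_b u) M) u) (dp_b_5 j u) (Nat.ble (nat_lit 13) j)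
noncomputable def dp_b_7 (j u : ℕ) : Bool :=
  Bool.rec (motive := fun _ => Bool) (lS MG [T_bi] M (Nat.sub (T_b u) (Nat.mod (T_b u) M)) (nat_lit 40) (Nat.mod (T_b u) M) u) (lF [T_ai, T_bi, T_a, T_bi, T_ai] M (Nat.sub (T_b u) (Nat.mod (T_b u) M)) (Nat.mod (T_b u) M) u) (Nat.ble (nat_lit 16) j)
noncomputable def dp_b_8 (j u : ℕ) : Bool :=
  Bool.rec (motive := fun _ => Bool) (lS MG [T_c, T_T, T_ci, T_bi, T_Ti] M (Nat.sub (T_b u) (Nat.mod (T_b u) M)) (nat_lit 40) (Nat.mod (T_b u) M) u) (lS MG [T_ai, T_b, T_a, T_bi, T_a] M (Nat.sub (T_b u) (Nat.mod (T_b u) M)) (nat_lit 40) (Nat.mod (T_b u) M) u) (Nat.ble (nat_lit 19) j)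
noncomputable def dp_b_9 (j u : ℕ) : Bool :=
  Bool.rec (motive := fun _ => Bool) (lF [T_di, T_bi, T_t, T_bi, T_ti] M (Nat.sub (T_b u) (Nat.mod (T_b u) M)) (Nat.mod (T_b u) M) u) (dp_b_8 j u) (Nat.ble (nat_lit 18) j)
noncomputable def dp_b_10 (j u : ℕ) : Bool :=
  Bool.rec (motive := fun _ => Bool) (lS MG [T_c, T_Ti, T_ci, T_bi, T_T] M (Nat.sub (T_b u) (Nat.mod (T_b u) M)) (nat_lit 40) (Nat.mod (T_b u) M) u) (lS MG [T_a, T_bi, T_a, T_b, T_ai] M (Nat.sub (T_b u) (Nat.mod (T_b u) M)) (nat_lit 40) (Nat.mod (T_b u) M) u) (Nat.ble (nat_lit 21) j)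
noncomputable def dp_b_11 (j u : ℕ) : Bool :=
  Bool.rec (motive := fun _ => Bool) (lS MG [T_ti, T_b, T_d, T_bi, T_t] M (Nat.sub (T_b u) (Nat.mod (T_b u) M)) (nat_lit 40) (Nat.mod (T_b u) M) u) (lS MG [T_d, T_bi, T_t, T_b, T_ti] M (Nat.sub (T_b u) (Nat.mod (T_b u) M)) (nat_lit 40) (Nat.mod (T_b u) M) u) (Nat.ble (nat_lit 23) j)
noncomputable def dp_b_12 (j u : ℕ) : Bool :=
  Bool.rec (motive := fun _ => Bool) (dp_b_10 j u) (dp_b_11 j u) (Nat.ble (nat_lit 22) j)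
noncomputable def dp_b_13 (j u : ℕ) : Bool :=
  Bool.rec (motive := fun _ => Bool) (lS MG [T_ti, T_bi, T_t, T_d, T_ti] M (Nat.sub (T_b u) (Nat.mod (T_b u) M)) (nat_lit 40) (Nat.mod (T_b u) M) u) (lS MG [T_t, T_bi, T_t, T_di, T_ti] M (Nat.sub (T_b u) (Nat.mod (T_b u) M)) (nat_lit 40) (Nat.mod (T_b u) M) u) (Nat.ble (nat_lit 26) j)
noncomputable def dp_b_14 (j u : ℕ) : Bool :=
  Bool.rec (motive := fun _ => Bool) (lS MG [T_ci, T_ti, T_c, T_bi, T_t] M (Nat.sub (T_b u) (Nat.mod (T_b u) M)) (nat_lit 40) (Nat.mod (T_b u) M) u) (dp_b_13 j u) (Nat.ble (nat_lit 25) j)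
noncomputable def dp_b_15 (j u : ℕ) : Bool :=
  Bool.rec (motive := fun _ => Bool) (lS MG [T_ai, T_bi, T_a, T_bi, T_ai] M (Nat.sub (T_b u) (Nat.mod (T_b u) M)) (nat_lit 40) (Nat.mod (T_b u) M) u) (lS MG [T_di, T_bi, T_t, T_bi, T_ti] M (Nat.sub (T_b u) (Nat.mod (T_b u) M)) (nat_lit 40) (Nat.mod (T_b u) M) u) (Nat.ble (nat_lit 28) j)
noncomputable def dp_b_16 (j u : ℕ) : Bool :=
  Bool.rec (motive := fun _ => Bool) (lH [] [] M (Nat.sub (T_b u) (Nat.mod (T_b u) M)) (Nat.mod (T_b u) M) u) (lS MG [T_zi, T_bi, T_z] M (Nat.sub (T_b u) (Nat.mod (T_b u) M)) (nat_lit 40) (Nat.mod (T_b u) M) u) (Nat.ble (nat_lit 30) j)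
noncomputable def dp_b_17 (j u : ℕ) : Bool :=
  Bool.rec (motive := fun _ => Bool) (lS MG [T_z, T_bi, T_zi] M (Nat.sub (T_b u) (Nat.mod (T_b u) M)) (nat_lit 40) (Nat.mod (T_b u) M) u) (lS MG [T_ci, T_t, T_c, T_bi, T_ti] M (Nat.sub (T_b u) (Nat.mod (T_b u) M)) (nat_lit 40) (Nat.mod (T_b u) M) u) (Nat.ble (nat_lit 32) j)
noncomputable def dp_b_18 (j u : ℕ) : Bool :=
  Bool.rec (motive := fun _ => Bool) (dp_b_16 j u) (dp_b_17 j u) (Nat.ble (nat_lit 31) j)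
noncomputable def dp_b_19 (j u : ℕ) : Bool :=
  Bool.rec (motive := fun _ => Bool) (dp_b_15 j u) (dp_b_18 j u) (Nat.ble (nat_lit 29) j)
noncomputable def dp_b_20 (j u : ℕ) : Bool :=
  Bool.rec (motive := fun _ => Bool) (dp_b_14 j u) (dp_b_19 j u) (Nat.ble (nat_lit 27) j)
noncomputable def dp_b_21 (j u : ℕ) : Bool :=
  Bool.rec (motive := fun _ => Bool) (dp_b_12 j u) (dp_b_20 j u) (Nat.ble (nat_lit 24) j)
noncomputable def dp_b_22 (j u : ℕ) : Bool :=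
  Bool.rec (motive := fun _ => Bool) (dp_b_9 j u) (dp_b_21 j u) (Nat.ble (nat_lit 20) j)
noncomputable def dp_b_23 (j u : ℕ) : Bool :=
  Bool.rec (motive := fun _ => Bool) (dp_b_7 j u) (dp_b_22 j u) (Nat.ble (nat_lit 17) j)
noncomputable def dp_b_24 (j u : ℕ) : Bool :=
  Bool.rec (motive := fun _ => Bool) (dp_b_6 j u) (dp_b_23 j u) (Nat.ble (nat_lit 15) j)
noncomputable def dp_b_25 (j u : ℕ) : Bool :=
  Bool.rec (motive := fun _ => Bool) (dp_b_4 j u) (dp_b_24 j u) (Nat.ble (nat_lit 12) j)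
noncomputable def dp_b_26 (j u : ℕ) : Bool :=
  Bool.rec (motive := fun _ => Bool) (Bool.rec (motive := fun _ => Bool) (Bool.rec (motive := fun _ => Bool) (lDef P (nat_lit 2) (Nat.mod (T_b u) M) u) (lDef P (nat_lit 3) u (Nat.mod (T_b u) M)) (Nat.ble (nat_lit 4) j)) (dp_b_1 j u) (Nat.ble (nat_lit 5) j)) (dp_b_25 j u) (Nat.ble (nat_lit 8) j)
noncomputable def disp_b (j u : ℕ) : Bool :=
  Bool.rec (motive := fun _ => Bool) (Bool.rec (motive := fun _ => Bool) (lF1 T_bi M (Nat.sub (T_b u) (Nat.mod (T_b u) M)) (Nat.mod (T_b u) M) u) (Bool.rec (motive := fun _ => Bool) (lF3 T_z T_bi T_zi M (Nat.sub (T_b u) (Nat.mod (T_b u) M)) (Nat.mod (T_b u) M) u) (lF3 T_zi T_bi T_z M (Nat.sub (T_b u) (Nat.mod (T_b u) M)) (Nat.mod (T_b u) M) u) (Nat.ble (nat_lit 2) j)) (Nat.ble (nat_lit 1) j)) (dp_b_26 j u) (Nat.ble (nat_lit 3) j)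
noncomputable def chk_b (j u : ℕ) : Bool :=
  Bool.rec (motive := fun _ => Bool) (disp_b j u) (Nat.ble (Nat.succ (MG u)) A) (Nat.ble A (T_b u))
noncomputable def dp_bi_0 (j u : ℕ) : Bool :=
  Bool.rec (motive := fun _ => Bool) (lF [T_ti, T_b, T_di, T_bi, T_t] M (Nat.sub (T_bi u) (Nat.mod (T_bi u) M)) (Nat.mod (T_bi u) M) u) (lF [T_T, T_b, T_c, T_Ti, T_ci] M (Nat.sub (T_bi u) (Nat.mod (T_bi u) M)) (Nat.mod (T_bi u) M) u) (Nat.ble (nat_lit 7) j)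
noncomputable def dp_bi_1 (j u : ℕ) : Bool :=
  Bool.rec (motive := fun _ => Bool) (lF [T_t, T_bi, T_ti, T_b, T_di] M (Nat.sub (T_bi u) (Nat.mod (T_bi u) M)) (Nat.mod (T_bi u) M) u) (dp_bi_0 j u) (Nat.ble (nat_lit 6) j)
noncomputable def dp_bi_2 (j u : ℕ) : Bool :=
  Bool.rec (motive := fun _ => Bool) (lF [T_ai, T_b, T_ai, T_bi, T_a] M (Nat.sub (T_bi u) (Nat.mod (T_bi u) M)) (Nat.mod (T_bi u) M) u) (lF [T_t, T_d, T_ti, T_b, T_ti] M (Nat.sub (T_bi u) (Nat.mod (T_bi u) M)) (Nat.mod (T_bi u) M) u) (Nat.ble (nat_lit 9) j)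
noncomputable def dp_bi_3 (j u : ℕ) : Bool :=
  Bool.rec (motive := fun _ => Bool) (lF [T_a, T_bi, T_ai, T_b, T_ai] M (Nat.sub (T_bi u) (Nat.mod (T_bi u) M)) (Nat.mod (T_bi u) M) u) (lS MG [T_b] M (Nat.sub (T_bi u) (Nat.mod (T_bi u) M)) (nat_lit 40) (Nat.mod (T_bi u) M) u) (Nat.ble (nat_lit 12) j)
noncomputable def dp_bi_4 (j u : ℕ) : Bool :=
  Bool.rec (motive := fun _ => Bool) (lF [T_Ti, T_b, T_c, T_T, T_ci] M (Nat.sub (T_bi u) (Nat.mod (T_bi u) M)) (Nat.mod (T_bi u) M) u) (dp_bi_3 j u) (Nat.ble (nat_lit 11) j)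
noncomputable def dp_bi_5 (j u : ℕ) : Bool :=
  Bool.rec (motive := fun _ => Bool) (lF [T_t, T_b, T_ti, T_b, T_d] M (Nat.sub (T_bi u) (Nat.mod (T_bi u) M)) (Nat.mod (T_bi u) M) u) (lF [T_t, T_b, T_ci, T_ti, T_c] M (Nat.sub (T_bi u) (Nat.mod (T_bi u) M)) (Nat.mod (T_bi u) M) u) (Nat.ble (nat_lit 15) j)
noncomputable def dp_bi_6 (j u : ℕ) : Bool :=
  Bool.rec (motive := fun _ => Bool) (lF [T_t, T_di, T_ti, T_b, T_t] M (Nat.sub (T_bi u) (Nat.mod (T_bi u) M)) (Nat.mod (T_bi u) M) u) (dp_bi_5 j u) (Nat.ble (nat_lit 14) j)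
noncomputable def dp_bi_7 (j u : ℕ) : Bool :=
  Bool.rec (motive := fun _ => Bool) (lF [T_ti, T_b, T_ci, T_t, T_c] M (Nat.sub (T_bi u) (Nat.mod (T_bi u) M)) (Nat.mod (T_bi u) M) u) (lS MG [T_a, T_b, T_ai, T_b, T_a] M (Nat.sub (T_bi u) (Nat.mod (T_bi u) M)) (nat_lit 40) (Nat.mod (T_bi u) M) u) (Nat.ble (nat_lit 18) j)
noncomputable def dp_bi_8 (j u : ℕ) : Bool :=
  Bool.rec (motive := fun _ => Bool) (lF [T_a, T_b, T_ai, T_b, T_a] M (Nat.sub (T_bi u) (Nat.mod (T_bi u) M)) (Nat.mod (T_bi u) M) u) (dp_bi_7 j u) (Nat.ble (nat_lit 17) j)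
noncomputable def dp_bi_9 (j u : ℕ) : Bool :=
  Bool.rec (motive := fun _ => Bool) (lS MG [T_ai, T_b, T_ai, T_bi, T_a] M (Nat.sub (T_bi u) (Nat.mod (T_bi u) M)) (nat_lit 40) (Nat.mod (T_bi u) M) u) (lS MG [T_t, T_bi, T_ti, T_b, T_di] M (Nat.sub (T_bi u) (Nat.mod (T_bi u) M)) (nat_lit 40) (Nat.mod (T_bi u) M) u) (Nat.ble (nat_lit 20) j)
noncomputable def dp_bi_10 (j u : ℕ) : Bool :=
  Bool.rec (motive := fun _ => Bool) (lS MG [T_t, T_d, T_ti, T_b, T_ti] M (Nat.sub (T_bi u) (Nat.mod (T_bi u) M)) (nat_lit 40) (Nat.mod (T_bi u) M) u) (lS MG [T_Ti, T_b, T_c, T_T, T_ci] M (Nat.sub (T_bi u) (Nat.mod (T_bi u) M)) (nat_lit 40) (Nat.mod (T_bi u) M) u) (Nat.ble (nat_lit 22) j)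
noncomputable def dp_bi_11 (j u : ℕ) : Bool :=
  Bool.rec (motive := fun _ => Bool) (dp_bi_9 j u) (dp_bi_10 j u) (Nat.ble (nat_lit 21) j)
noncomputable def dp_bi_12 (j u : ℕ) : Bool :=
  Bool.rec (motive := fun _ => Bool) (lS MG [T_a, T_bi, T_ai, T_b, T_ai] M (Nat.sub (T_bi u) (Nat.mod (T_bi u) M)) (nat_lit 40) (Nat.mod (T_bi u) M) u) (lS MG [T_ti, T_b, T_ci, T_t, T_c] M (Nat.sub (T_bi u) (Nat.mod (T_bi u) M)) (nat_lit 40) (Nat.mod (T_bi u) M) u) (Nat.ble (nat_lit 25) j)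
noncomputable def dp_bi_13 (j u : ℕ) : Bool :=
  Bool.rec (motive := fun _ => Bool) (lS MG [T_T, T_b, T_c, T_Ti, T_ci] M (Nat.sub (T_bi u) (Nat.mod (T_bi u) M)) (nat_lit 40) (Nat.mod (T_bi u) M) u) (dp_bi_12 j u) (Nat.ble (nat_lit 24) j)
noncomputable def dp_bi_14 (j u : ℕ) : Bool :=
  Bool.rec (motive := fun _ => Bool) (lS MG [T_t, T_b, T_ci, T_ti, T_c] M (Nat.sub (T_bi u) (Nat.mod (T_bi u) M)) (nat_lit 40) (Nat.mod (T_bi u) M) u) (lS MG [T_t, T_di, T_ti, T_b, T_t] M (Nat.sub (T_bi u) (Nat.mod (T_bi u) M)) (nat_lit 40) (Nat.mod (T_bi u) M) u) (Nat.ble (nat_lit 27) j)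
noncomputable def dp_bi_15 (j u : ℕ) : Bool :=
  Bool.rec (motive := fun _ => Bool) (lS MG [T_ti, T_b, T_di, T_bi, T_t] M (Nat.sub (T_bi u) (Nat.mod (T_bi u) M)) (nat_lit 40) (Nat.mod (T_bi u) M) u) (lS MG [T_z, T_b, T_zi] M (Nat.sub (T_bi u) (Nat.mod (T_bi u) M)) (nat_lit 40) (Nat.mod (T_bi u) M) u) (Nat.ble (nat_lit 29) j)
noncomputable def dp_bi_16 (j u : ℕ) : Bool :=
  Bool.rec (motive := fun _ => Bool) (lS MG [T_t, T_b, T_ti, T_b, T_d] M (Nat.sub (T_bi u) (Nat.mod (T_bi u) M)) (nat_lit 40) (Nat.mod (T_bi u) M) u) (lS MG [T_ai, T_bi, T_t, T_Ti, T_bi, T_di, T_ci, T_a, T_ti, T_ci, T_bi, T_ai, T_bi, T_t, T_Ti, T_bi, T_di, T_ci, T_a, T_ti, T_ci, T_bi, T_ai, T_bi, T_t, T_Ti, T_z, T_bi, T_di, T_ci, T_a, T_ti, T_ci, T_bi, T_ai, T_bi, T_t, T_Ti, T_bi, T_di, T_ci, T_a, T_ti, T_ci] M (Nat.sub (T_bi u) (Nat.mod (T_bi u) M)) (nat_lit 40) (Nat.mod (T_bi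 u) M) u) (Nat.ble (nat_lit 32) j)
noncomputable def dp_bi_17 (j u : ℕ) : Bool :=
  Bool.rec (motive := fun _ => Bool) (lS MG [T_zi, T_b, T_z] M (Nat.sub (T_bi u) (Nat.mod (T_bi u) M)) (nat_lit 40) (Nat.mod (T_bi u) M) u) (dp_bi_16 j u) (Nat.ble (nat_lit 31) j)
noncomputable def dp_bi_18 (j u : ℕ) : Bool :=
  Bool.rec (motive := fun _ => Bool) (dp_bi_15 j u) (dp_bi_17 j u) (Nat.ble (nat_lit 30) j)
noncomputable def dp_bi_19 (j u : ℕ) : Bool :=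
  Bool.rec (motive := fun _ => Bool) (dp_bi_14 j u) (dp_bi_18 j u) (Nat.ble (nat_lit 28) j)
noncomputable def dp_bi_20 (j u : ℕ) : Bool :=
  Bool.rec (motive := fun _ => Bool) (dp_bi_13 j u) (dp_bi_19 j u) (Nat.ble (nat_lit 26) j)
noncomputable def dp_bi_21 (j u : ℕ) : Bool :=
  Bool.rec (motive := fun _ => Bool) (dp_bi_11 j u) (dp_bi_20 j u) (Nat.ble (nat_lit 23) j)
noncomputable def dp_bi_22 (j u : ℕ) : Bool :=
  Bool.rec (motive := fun _ => Bool) (dp_bi_8 j u) (dp_bi_21 j u) (Nat.ble (nat_lit 19) j)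
noncomputable def dp_bi_23 (j u : ℕ) : Bool :=
  Bool.rec (motive := fun _ => Bool) (dp_bi_6 j u) (dp_bi_22 j u) (Nat.ble (nat_lit 16) j)
noncomputable def dp_bi_24 (j u : ℕ) : Bool :=
  Bool.rec (motive := fun _ => Bool) (Bool.rec (motive := fun _ => Bool) (dp_bi_2 j u) (dp_bi_4 j u) (Nat.ble (nat_lit 10) j)) (dp_bi_23 j u) (Nat.ble (nat_lit 13) j)
noncomputable def dp_bi_25 (j u : ℕ) : Bool :=
  Bool.rec (motive := fun _ => Bool) (Bool.rec (motive := fun _ => Bool) (Bool.rec (motive := fun _ => Bool) (lF3 T_z T_b T_zi M (Nat.sub (T_bi u) (Nat.mod (T_bi u) M)) (Nat.mod (T_bi u) M) u) (lDef P (nat_lit 3) (Nat.mod (T_bi u) M) u) (Nat.ble (nat_lit 4) j)) (dp_bi_1 j u) (Nat.ble (nat_lit 5) j)) (dp_bi_24 j u) (Nat.ble (nat_lit 8) j)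
noncomputable def disp_bi (j u : ℕ) : Bool :=
  Bool.rec (motive := fun _ => Bool) (Bool.rec (motive := fun _ => Bool) (lF1 T_b M (Nat.sub (T_bi u) (Nat.mod (T_bi u) M)) (Nat.mod (T_bi u) M) u) (Bool.rec (motive := fun _ => Bool) (lF3 T_zi T_b T_z M (Nat.sub (T_bi u) (Nat.mod (T_bi u) M)) (Nat.mod (T_bi u) M) u) (lDef P (nat_lit 2) u (Nat.mod (T_bi u) M)) (Nat.ble (nat_lit 2) j)) (Nat.ble (nat_lit 1) j)) (dp_bi_25 j u) (Nat.ble (nat_lit 3) j)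
noncomputable def chk_bi (j u : ℕ) : Bool :=
  Bool.rec (motive := fun _ => Bool) (disp_bi j u) (Nat.ble (Nat.succ (MG u)) A) (Nat.ble A (T_bi u))
noncomputable def dp_c_0 (j u : ℕ) : Bool :=
  Bool.rec (motive := fun _ => Bool) (lDef P (nat_lit 4) (Nat.mod (T_c u) M) u) (lF [T_ai, T_ci, T_ai, T_c, T_a] M (Nat.sub (T_c u) (Nat.mod (T_c u) M)) (Nat.mod (T_c u) M) u) (Nat.ble (nat_lit 5) j)
noncomputable def dp_c_1 (j u : ℕ) : Bool :=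
  Bool.rec (motive := fun _ => Bool) (lF [T_bi, T_ti, T_b, T_ci, T_t] M (Nat.sub (T_c u) (Nat.mod (T_c u) M)) (Nat.mod (T_c u) M) u) (lS MG [T_ci] M (Nat.sub (T_c u) (Nat.mod (T_c u) M)) (nat_lit 40) (Nat.mod (T_c u) M) u) (Nat.ble (nat_lit 8) j)
noncomputable def dp_c_2 (j u : ℕ) : Bool :=
  Bool.rec (motive := fun _ => Bool) (lF [T_bi, T_t, T_b, T_ci, T_ti] M (Nat.sub (T_c u) (Nat.mod (T_c u) M)) (Nat.mod (T_c u) M) u) (dp_c_1 j u) (Nat.ble (nat_lit 7) j)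
noncomputable def dp_c_3 (j u : ℕ) : Bool :=
  Bool.rec (motive := fun _ => Bool) (lF [T_a, T_c, T_ai, T_ci, T_ai] M (Nat.sub (T_c u) (Nat.mod (T_c u) M)) (Nat.mod (T_c u) M) u) (lF [T_di, T_ci, T_di, T_c, T_d] M (Nat.sub (T_c u) (Nat.mod (T_c u) M)) (Nat.mod (T_c u) M) u) (Nat.ble (nat_lit 11) j)
noncomputable def dp_c_4 (j u : ℕ) : Bool :=
  Bool.rec (motive := fun _ => Bool) (lF [T_a, T_T, T_ai, T_ci, T_Ti] M (Nat.sub (T_c u) (Nat.mod (T_c u) M)) (Nat.mod (T_c u) M) u) (dp_c_3 j u) (Nat.ble (nat_lit 10) j)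
noncomputable def dp_c_5 (j u : ℕ) : Bool :=
  Bool.rec (motive := fun _ => Bool) (lF [T_d, T_c, T_di, T_ci, T_di] M (Nat.sub (T_c u) (Nat.mod (T_c u) M)) (Nat.mod (T_c u) M) u) (lF [T_T, T_ci, T_a, T_Ti, T_ai] M (Nat.sub (T_c u) (Nat.mod (T_c u) M)) (Nat.mod (T_c u) M) u) (Nat.ble (nat_lit 13) j)
noncomputable def dp_c_6 (j u : ℕ) : Bool :=
  Bool.rec (motive := fun _ => Bool) (lF [T_a, T_Ti, T_ai, T_ci, T_T] M (Nat.sub (T_c u) (Nat.mod (T_c u) M)) (Nat.mod (T_c u) M) u) (lF [T_Ti, T_ci, T_a, T_T, T_ai] M (Nat.sub (T_c u) (Nat.mod (T_c u) M)) (Nat.mod (T_c u) M) u) (Nat.ble (nat_lit 15) j)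
noncomputable def dp_c_7 (j u : ℕ) : Bool :=
  Bool.rec (motive := fun _ => Bool) (dp_c_5 j u) (dp_c_6 j u) (Nat.ble (nat_lit 14) j)
noncomputable def dp_c_8 (j u : ℕ) : Bool :=
  Bool.rec (motive := fun _ => Bool) (lF [T_a, T_ci, T_ai, T_ci, T_a] M (Nat.sub (T_c u) (Nat.mod (T_c u) M)) (Nat.mod (T_c u) M) u) (lF [T_d, T_ci, T_di, T_ci, T_d] M (Nat.sub (T_c u) (Nat.mod (T_c u) M)) (Nat.mod (T_c u) M) u) (Nat.ble (nat_lit 18) j)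
noncomputable def dp_c_9 (j u : ℕ) : Bool :=
  Bool.rec (motive := fun _ => Bool) (lF [T_T, T_ci, T_bi, T_Ti, T_b] M (Nat.sub (T_c u) (Nat.mod (T_c u) M)) (Nat.mod (T_c u) M) u) (dp_c_8 j u) (Nat.ble (nat_lit 17) j)
noncomputable def dp_c_10 (j u : ℕ) : Bool :=
  Bool.rec (motive := fun _ => Bool) (lS MG [T_bi, T_ti, T_b, T_ci, T_t] M (Nat.sub (T_c u) (Nat.mod (T_c u) M)) (nat_lit 40) (Nat.mod (T_c u) M) u) (lS MG [T_di, T_ci, T_di, T_c, T_d] M (Nat.sub (T_c u) (Nat.mod (T_c u) M)) (nat_lit 40) (Nat.mod (T_c u) M) u) (Nat.ble (nat_lit 21) j)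
noncomputable def dp_c_11 (j u : ℕ) : Bool :=
  Bool.rec (motive := fun _ => Bool) (lF [T_Ti, T_ci, T_bi, T_T, T_b] M (Nat.sub (T_c u) (Nat.mod (T_c u) M)) (Nat.mod (T_c u) M) u) (dp_c_10 j u) (Nat.ble (nat_lit 20) j)
noncomputable def dp_c_12 (j u : ℕ) : Bool :=
  Bool.rec (motive := fun _ => Bool) (lS MG [T_bi, T_t, T_b, T_ci, T_ti] M (Nat.sub (T_c u) (Nat.mod (T_c u) M)) (nat_lit 40) (Nat.mod (T_c u) M) u) (lS MG [T_a, T_c, T_ai, T_ci, T_ai] M (Nat.sub (T_c u) (Nat.mod (T_c u) M)) (nat_lit 40) (Nat.mod (T_c u) M) u) (Nat.ble (nat_lit 24) j)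
noncomputable def dp_c_13 (j u : ℕ) : Bool :=
  Bool.rec (motive := fun _ => Bool) (lS MG [T_ai, T_ci, T_ai, T_c, T_a] M (Nat.sub (T_c u) (Nat.mod (T_c u) M)) (nat_lit 40) (Nat.mod (T_c u) M) u) (dp_c_12 j u) (Nat.ble (nat_lit 23) j)
noncomputable def dp_c_14 (j u : ℕ) : Bool :=
  Bool.rec (motive := fun _ => Bool) (lS MG [T_d, T_c, T_di, T_ci, T_di] M (Nat.sub (T_c u) (Nat.mod (T_c u) M)) (nat_lit 40) (Nat.mod (T_c u) M) u) (lS MG [T_a, T_ci, T_ai, T_ci, T_a] M (Nat.sub (T_c u) (Nat.mod (T_c u) M)) (nat_lit 40) (Nat.mod (T_c u) M) u) (Nat.ble (nat_lit 27) j)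
noncomputable def dp_c_15 (j u : ℕ) : Bool :=
  Bool.rec (motive := fun _ => Bool) (lS MG [T_d, T_ci, T_di, T_ci, T_d] M (Nat.sub (T_c u) (Nat.mod (T_c u) M)) (nat_lit 40) (Nat.mod (T_c u) M) u) (dp_c_14 j u) (Nat.ble (nat_lit 26) j)
noncomputable def dp_c_16 (j u : ℕ) : Bool :=
  Bool.rec (motive := fun _ => Bool) (lS MG [T_Ti, T_ci, T_a, T_T, T_ai] M (Nat.sub (T_c u) (Nat.mod (T_c u) M)) (nat_lit 40) (Nat.mod (T_c u) M) u) (lS MG [T_a, T_T, T_ai, T_ci, T_Ti] M (Nat.sub (T_c u) (Nat.mod (T_c u) M)) (nat_lit 40) (Nat.mod (T_c u) M) u) (Nat.ble (nat_lit 29) j)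
noncomputable def dp_c_17 (j u : ℕ) : Bool :=
  Bool.rec (motive := fun _ => Bool) (lS MG [T_T, T_ci, T_bi, T_Ti, T_b] M (Nat.sub (T_c u) (Nat.mod (T_c u) M)) (nat_lit 40) (Nat.mod (T_c u) M) u) (lS MG [T_T, T_ci, T_a, T_Ti, T_ai] M (Nat.sub (T_c u) (Nat.mod (T_c u) M)) (nat_lit 40) (Nat.mod (T_c u) M) u) (Nat.ble (nat_lit 31) j)
noncomputable def dp_c_18 (j u : ℕ) : Bool :=
  Bool.rec (motive := fun _ => Bool) (lS MG [T_a, T_Ti, T_ai, T_ci, T_T] M (Nat.sub (T_c u) (Nat.mod (T_c u) M)) (nat_lit 40) (Nat.mod (T_c u) M) u) (lS MG [T_d, T_b, T_T, T_ti, T_b, T_a, T_b, T_c, T_t, T_ai, T_c, T_d, T_b, T_T, T_ti, T_b, T_a, T_b, T_c, T_t, T_ai, T_c, T_d, T_b, T_T, T_ti, T_b, T_a, T_b, T_c, T_t, T_ai, T_c, T_d, T_b, T_zi, T_T, T_ti, T_b, T_a, T_b, T_c, T_t, T_ai] M (Nat.sub (T_c u) (Nat.mod (T_c u) M)) (nat_lit 40) (Nat.mod (T_c u) M) u) (Nat.ble (nat_lit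 34) j)
noncomputable def dp_c_19 (j u : ℕ) : Bool :=
  Bool.rec (motive := fun _ => Bool) (lH [] [] M (Nat.sub (T_c u) (Nat.mod (T_c u) M)) (Nat.mod (T_c u) M) u) (dp_c_18 j u) (Nat.ble (nat_lit 33) j)
noncomputable def dp_c_20 (j u : ℕ) : Bool :=
  Bool.rec (motive := fun _ => Bool) (dp_c_17 j u) (dp_c_19 j u) (Nat.ble (nat_lit 32) j)
noncomputable def dp_c_21 (j u : ℕ) : Bool :=
  Bool.rec (motive := fun _ => Bool) (dp_c_16 j u) (dp_c_20 j u) (Nat.ble (nat_lit 30) j)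
noncomputable def dp_c_22 (j u : ℕ) : Bool :=
  Bool.rec (motive := fun _ => Bool) (dp_c_15 j u) (dp_c_21 j u) (Nat.ble (nat_lit 28) j)
noncomputable def dp_c_23 (j u : ℕ) : Bool :=
  Bool.rec (motive := fun _ => Bool) (dp_c_13 j u) (dp_c_22 j u) (Nat.ble (nat_lit 25) j)
noncomputable def dp_c_24 (j u : ℕ) : Bool :=
  Bool.rec (motive := fun _ => Bool) (dp_c_11 j u) (dp_c_23 j u) (Nat.ble (nat_lit 22) j)
noncomputable def dp_c_25 (j u : ℕ) : Bool :=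
  Bool.rec (motive := fun _ => Bool) (dp_c_9 j u) (dp_c_24 j u) (Nat.ble (nat_lit 19) j)
noncomputable def dp_c_26 (j u : ℕ) : Bool :=
  Bool.rec (motive := fun _ => Bool) (dp_c_7 j u) (dp_c_25 j u) (Nat.ble (nat_lit 16) j)
noncomputable def dp_c_27 (j u : ℕ) : Bool :=
  Bool.rec (motive := fun _ => Bool) (Bool.rec (motive := fun _ => Bool) (dp_c_2 j u) (dp_c_4 j u) (Nat.ble (nat_lit 9) j)) (dp_c_26 j u) (Nat.ble (nat_lit 12) j)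
noncomputable def disp_c (j u : ℕ) : Bool :=
  Bool.rec (motive := fun _ => Bool) (Bool.rec (motive := fun _ => Bool) (lF1 T_ci M (Nat.sub (T_c u) (Nat.mod (T_c u) M)) (Nat.mod (T_c u) M) u) (lF3 T_zi T_ci T_z M (Nat.sub (T_c u) (Nat.mod (T_c u) M)) (Nat.mod (T_c u) M) u) (Nat.ble (nat_lit 1) j)) (Bool.rec (motive := fun _ => Bool) (Bool.rec (motive := fun _ => Bool) (Bool.rec (motive := fun _ => Bool) (lF3 T_z T_ci T_zi M (Nat.sub (T_c u) (Nat.mod (T_c u) M)) (Nat.mod (T_c u) M) u) (lDef P (nat_lit 5) u (Nat.mod (T_c u) M)) (Nat.ble (nat_lit 3) j)) (dp_c_0 j u) (Nat.ble (nat_lit 4) j)) (dp_c_27 j u) (Nat.ble (nat_lit 6) j)) (Nat.ble (nat_lit 2) j)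
noncomputable def chk_c (j u : ℕ) : Bool :=
  Bool.rec (motive := fun _ => Bool) (disp_c j u) (Nat.ble (Nat.succ (MG u)) A) (Nat.ble A (T_c u))
noncomputable def dp_ci_0 (j u : ℕ) : Bool :=
  Bool.rec (motive := fun _ => Bool) (lF [T_ai, T_ci, T_a, T_c, T_a] M (Nat.sub (T_ci u) (Nat.mod (T_ci u) M)) (Nat.mod (T_ci u) M) u) (lF [T_di, T_ci, T_d, T_c, T_d] M (Nat.sub (T_ci u) (Nat.mod (T_ci u) M)) (Nat.mod (T_ci u) M) u) (Nat.ble (nat_lit 6) j)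
noncomputable def dp_ci_1 (j u : ℕ) : Bool :=
  Bool.rec (motive := fun _ => Bool) (lF [T_a, T_c, T_a, T_ci, T_ai] M (Nat.sub (T_ci u) (Nat.mod (T_ci u) M)) (Nat.mod (T_ci u) M) u) (lF [T_t, T_c, T_bi, T_ti, T_b] M (Nat.sub (T_ci u) (Nat.mod (T_ci u) M)) (Nat.mod (T_ci u) M) u) (Nat.ble (nat_lit 8) j)
noncomputable def dp_ci_2 (j u : ℕ) : Bool :=
  Bool.rec (motive := fun _ => Bool) (lF [T_a, T_T, T_ai, T_c, T_Ti] M (Nat.sub (T_ci u) (Nat.mod (T_ci u) M)) (Nat.mod (T_ci u) M) u) (lS MG [T_c] M (Nat.sub (T_ci u) (Nat.mod (T_ci u) M)) (nat_lit 40) (Nat.mod (T_ci u) M) u) (Nat.ble (nat_lit 11) j)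
noncomputable def dp_ci_3 (j u : ℕ) : Bool :=
  Bool.rec (motive := fun _ => Bool) (lF [T_d, T_c, T_d, T_ci, T_di] M (Nat.sub (T_ci u) (Nat.mod (T_ci u) M)) (Nat.mod (T_ci u) M) u) (dp_ci_2 j u) (Nat.ble (nat_lit 10) j)
noncomputable def dp_ci_4 (j u : ℕ) : Bool :=
  Bool.rec (motive := fun _ => Bool) (dp_ci_1 j u) (dp_ci_3 j u) (Nat.ble (nat_lit 9) j)
noncomputable def dp_ci_5 (j u : ℕ) : Bool :=
  Bool.rec (motive := fun _ => Bool) (lF [T_ti, T_c, T_bi, T_t, T_b] M (Nat.sub (T_ci u) (Nat.mod (T_ci u) M)) (Nat.mod (T_ci u) M) u) (lF [T_T, T_c, T_a, T_Ti, T_ai] M (Nat.sub (T_ci u) (Nat.mod (T_ci u) M)) (Nat.mod (T_ci u) M) u) (Nat.ble (nat_lit 13) j)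
noncomputable def dp_ci_6 (j u : ℕ) : Bool :=
  Bool.rec (motive := fun _ => Bool) (lF [T_ai, T_c, T_a, T_c, T_ai] M (Nat.sub (T_ci u) (Nat.mod (T_ci u) M)) (Nat.mod (T_ci u) M) u) (lF [T_a, T_Ti, T_ai, T_c, T_T] M (Nat.sub (T_ci u) (Nat.mod (T_ci u) M)) (Nat.mod (T_ci u) M) u) (Nat.ble (nat_lit 16) j)
noncomputable def dp_ci_7 (j u : ℕ) : Bool :=
  Bool.rec (motive := fun _ => Bool) (lF [T_di, T_c, T_d, T_c, T_di] M (Nat.sub (T_ci u) (Nat.mod (T_ci u) M)) (Nat.mod (T_ci u) M) u) (dp_ci_6 j u) (Nat.ble (nat_lit 15) j)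
noncomputable def dp_ci_8 (j u : ℕ) : Bool :=
  Bool.rec (motive := fun _ => Bool) (dp_ci_5 j u) (dp_ci_7 j u) (Nat.ble (nat_lit 14) j)
noncomputable def dp_ci_9 (j u : ℕ) : Bool :=
  Bool.rec (motive := fun _ => Bool) (lF [T_Ti, T_c, T_a, T_T, T_ai] M (Nat.sub (T_ci u) (Nat.mod (T_ci u) M)) (Nat.mod (T_ci u) M) u) (lF [T_bi, T_Ti, T_b, T_c, T_T] M (Nat.sub (T_ci u) (Nat.mod (T_ci u) M)) (Nat.mod (T_ci u) M) u) (Nat.ble (nat_lit 19) j)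
noncomputable def dp_ci_10 (j u : ℕ) : Bool :=
  Bool.rec (motive := fun _ => Bool) (lF [T_bi, T_T, T_b, T_c, T_Ti] M (Nat.sub (T_ci u) (Nat.mod (T_ci u) M)) (Nat.mod (T_ci u) M) u) (dp_ci_9 j u) (Nat.ble (nat_lit 18) j)
noncomputable def dp_ci_11 (j u : ℕ) : Bool :=
  Bool.rec (motive := fun _ => Bool) (lS MG [T_d, T_c, T_d, T_ci, T_di] M (Nat.sub (T_ci u) (Nat.mod (T_ci u) M)) (nat_lit 40) (Nat.mod (T_ci u) M) u) (lS MG [T_di, T_ci, T_d, T_c, T_d] M (Nat.sub (T_ci u) (Nat.mod (T_ci u) M)) (nat_lit 40) (Nat.mod (T_ci u) M) u) (Nat.ble (nat_lit 21) j)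
noncomputable def dp_ci_12 (j u : ℕ) : Bool :=
  Bool.rec (motive := fun _ => Bool) (lS MG [T_di, T_c, T_d, T_c, T_di] M (Nat.sub (T_ci u) (Nat.mod (T_ci u) M)) (nat_lit 40) (Nat.mod (T_ci u) M) u) (lS MG [T_a, T_c, T_a, T_ci, T_ai] M (Nat.sub (T_ci u) (Nat.mod (T_ci u) M)) (nat_lit 40) (Nat.mod (T_ci u) M) u) (Nat.ble (nat_lit 23) j)
noncomputable def dp_ci_13 (j u : ℕ) : Bool :=
  Bool.rec (motive := fun _ => Bool) (dp_ci_11 j u) (dp_ci_12 j u) (Nat.ble (nat_lit 22) j)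
noncomputable def dp_ci_14 (j u : ℕ) : Bool :=
  Bool.rec (motive := fun _ => Bool) (lS MG [T_ti, T_c, T_bi, T_t, T_b] M (Nat.sub (T_ci u) (Nat.mod (T_ci u) M)) (nat_lit 40) (Nat.mod (T_ci u) M) u) (lS MG [T_t, T_c, T_bi, T_ti, T_b] M (Nat.sub (T_ci u) (Nat.mod (T_ci u) M)) (nat_lit 40) (Nat.mod (T_ci u) M) u) (Nat.ble (nat_lit 26) j)
noncomputable def dp_ci_15 (j u : ℕ) : Bool :=
  Bool.rec (motive := fun _ => Bool) (lS MG [T_ai, T_ci, T_a, T_c, T_a] M (Nat.sub (T_ci u) (Nat.mod (T_ci u) M)) (nat_lit 40) (Nat.mod (T_ci u) M) u) (dp_ci_14 j u) (Nat.ble (nat_lit 25) j)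
noncomputable def dp_ci_16 (j u : ℕ) : Bool :=
  Bool.rec (motive := fun _ => Bool) (lS MG [T_a, T_T, T_ai, T_c, T_Ti] M (Nat.sub (T_ci u) (Nat.mod (T_ci u) M)) (nat_lit 40) (Nat.mod (T_ci u) M) u) (lS MG [T_zi, T_c, T_z] M (Nat.sub (T_ci u) (Nat.mod (T_ci u) M)) (nat_lit 40) (Nat.mod (T_ci u) M) u) (Nat.ble (nat_lit 28) j)
noncomputable def dp_ci_17 (j u : ℕ) : Bool :=
  Bool.rec (motive := fun _ => Bool) (lS MG [T_T, T_c, T_a, T_Ti, T_ai] M (Nat.sub (T_ci u) (Nat.mod (T_ci u) M)) (nat_lit 40) (Nat.mod (T_ci u) M) u) (lS MG [T_z, T_c, T_zi] M (Nat.sub (T_ci u) (Nat.mod (T_ci u) M)) (nat_lit 40) (Nat.mod (T_ci u) M) u) (Nat.ble (nat_lit 30) j)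
noncomputable def dp_ci_18 (j u : ℕ) : Bool :=
  Bool.rec (motive := fun _ => Bool) (lS MG [T_ai, T_c, T_a, T_c, T_ai] M (Nat.sub (T_ci u) (Nat.mod (T_ci u) M)) (nat_lit 40) (Nat.mod (T_ci u) M) u) (lS MG [T_bi, T_ai, T_bi, T_t, T_Ti, T_bi, T_di, T_ci, T_a, T_ti, T_ci, T_bi, T_ai, T_bi, T_t, T_Ti, T_bi, T_di, T_ci, T_a, T_ti, T_ci, T_bi, T_ai, T_bi, T_t, T_Ti, T_bi, T_di, T_ci, T_a, T_ti, T_ci, T_bi, T_ai, T_bi, T_t, T_Ti, T_z, T_bi, T_di, T_ci, T_a, T_ti] M (Nat.sub (T_ci u) (Nat.mod (T_ci u) M)) (nat_lit 40) (Nat.mod (T_ci u) M) u) (Nat.ble (nat_lit 33) j)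
noncomputable def dp_ci_19 (j u : ℕ) : Bool :=
  Bool.rec (motive := fun _ => Bool) (lS MG [T_bi, T_Ti, T_b, T_c, T_T] M (Nat.sub (T_ci u) (Nat.mod (T_ci u) M)) (nat_lit 40) (Nat.mod (T_ci u) M) u) (dp_ci_18 j u) (Nat.ble (nat_lit 32) j)
noncomputable def dp_ci_20 (j u : ℕ) : Bool :=
  Bool.rec (motive := fun _ => Bool) (dp_ci_17 j u) (dp_ci_19 j u) (Nat.ble (nat_lit 31) j)
noncomputable def dp_ci_21 (j u : ℕ) : Bool :=
  Bool.rec (motive := fun _ => Bool) (dp_ci_16 j u) (dp_ci_20 j u) (Nat.ble (nat_lit 29) j)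
noncomputable def dp_ci_22 (j u : ℕ) : Bool :=
  Bool.rec (motive := fun _ => Bool) (dp_ci_15 j u) (dp_ci_21 j u) (Nat.ble (nat_lit 27) j)
noncomputable def dp_ci_23 (j u : ℕ) : Bool :=
  Bool.rec (motive := fun _ => Bool) (dp_ci_13 j u) (dp_ci_22 j u) (Nat.ble (nat_lit 24) j)
noncomputable def dp_ci_24 (j u : ℕ) : Bool :=
  Bool.rec (motive := fun _ => Bool) (dp_ci_10 j u) (dp_ci_23 j u) (Nat.ble (nat_lit 20) j)
noncomputable def dp_ci_25 (j u : ℕ) : Bool :=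
  Bool.rec (motive := fun _ => Bool) (dp_ci_8 j u) (dp_ci_24 j u) (Nat.ble (nat_lit 17) j)
noncomputable def dp_ci_26 (j u : ℕ) : Bool :=
  Bool.rec (motive := fun _ => Bool) (dp_ci_4 j u) (dp_ci_25 j u) (Nat.ble (nat_lit 12) j)
noncomputable def dp_ci_27 (j u : ℕ) : Bool :=
  Bool.rec (motive := fun _ => Bool) (Bool.rec (motive := fun _ => Bool) (lDef P (nat_lit 5) (Nat.mod (T_ci u) M) u) (Bool.rec (motive := fun _ => Bool) (lDef P (nat_lit 4) u (Nat.mod (T_ci u) M)) (dp_ci_0 j u) (Nat.ble (nat_lit 5) j)) (Nat.ble (nat_lit 4) j)) (dp_ci_26 j u) (Nat.ble (nat_lit 7) j)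
noncomputable def disp_ci (j u : ℕ) : Bool :=
  Bool.rec (motive := fun _ => Bool) (Bool.rec (motive := fun _ => Bool) (lF1 T_c M (Nat.sub (T_ci u) (Nat.mod (T_ci u) M)) (Nat.mod (T_ci u) M) u) (Bool.rec (motive := fun _ => Bool) (lF3 T_zi T_c T_z M (Nat.sub (T_ci u) (Nat.mod (T_ci u) M)) (Nat.mod (T_ci u) M) u) (lF3 T_z T_c T_zi M (Nat.sub (T_ci u) (Nat.mod (T_ci u) M)) (Nat.mod (T_ci u) M) u) (Nat.ble (nat_lit 2) j)) (Nat.ble (nat_lit 1) j)) (dp_ci_27 j u) (Nat.ble (nat_lit 3) j)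
noncomputable def chk_ci (j u : ℕ) : Bool :=
  Bool.rec (motive := fun _ => Bool) (disp_ci j u) (Nat.ble (Nat.succ (MG u)) A) (Nat.ble A (T_ci u))
noncomputable def dp_d_0 (j u : ℕ) : Bool :=
  Bool.rec (motive := fun _ => Bool) (lF [T_Ti, T_ti, T_d, T_t, T_T] M (Nat.sub (T_d u) (Nat.mod (T_d u) M)) (Nat.mod (T_d u) M) u) (lF [T_c, T_d, T_ci, T_di, T_ci] M (Nat.sub (T_d u) (Nat.mod (T_d u) M)) (Nat.mod (T_d u) M) u) (Nat.ble (nat_lit 7) j)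
noncomputable def dp_d_1 (j u : ℕ) : Bool :=
  Bool.rec (motive := fun _ => Bool) (lF [T_bi, T_t, T_b, T_ti, T_b] M (Nat.sub (T_d u) (Nat.mod (T_d u) M)) (Nat.mod (T_d u) M) u) (dp_d_0 j u) (Nat.ble (nat_lit 6) j)
noncomputable def dp_d_2 (j u : ℕ) : Bool :=
  Bool.rec (motive := fun _ => Bool) (lF [T_ti, T_b, T_ti, T_bi, T_t] M (Nat.sub (T_d u) (Nat.mod (T_d u) M)) (Nat.mod (T_d u) M) u) (lF [T_a, T_di, T_a, T_d, T_ai] M (Nat.sub (T_d u) (Nat.mod (T_d u) M)) (Nat.mod (T_d u) M) u) (Nat.ble (nat_lit 9) j)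
noncomputable def dp_d_3 (j u : ℕ) : Bool :=
  Bool.rec (motive := fun _ => Bool) (lF [T_ci, T_di, T_ci, T_d, T_c] M (Nat.sub (T_d u) (Nat.mod (T_d u) M)) (Nat.mod (T_d u) M) u) (lF [T_ai, T_d, T_a, T_di, T_a] M (Nat.sub (T_d u) (Nat.mod (T_d u) M)) (Nat.mod (T_d u) M) u) (Nat.ble (nat_lit 11) j)
noncomputable def dp_d_4 (j u : ℕ) : Bool :=
  Bool.rec (motive := fun _ => Bool) (dp_d_2 j u) (dp_d_3 j u) (Nat.ble (nat_lit 10) j)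
noncomputable def dp_d_5 (j u : ℕ) : Bool :=
  Bool.rec (motive := fun _ => Bool) (lF [T_t, T_a, T_ti, T_di, T_a] M (Nat.sub (T_d u) (Nat.mod (T_d u) M)) (Nat.mod (T_d u) M) u) (lF [T_t, T_ai, T_ti, T_di, T_ai] M (Nat.sub (T_d u) (Nat.mod (T_d u) M)) (Nat.mod (T_d u) M) u) (Nat.ble (nat_lit 14) j)
noncomputable def dp_d_6 (j u : ℕ) : Bool :=
  Bool.rec (motive := fun _ => Bool) (lF [T_c, T_di, T_ci, T_di, T_c] M (Nat.sub (T_d u) (Nat.mod (T_d u) M)) (Nat.mod (T_d u) M) u) (dp_d_5 j u) (Nat.ble (nat_lit 13) j)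
noncomputable def dp_d_7 (j u : ℕ) : Bool :=
  Bool.rec (motive := fun _ => Bool) (lS MG [T_di] M (Nat.sub (T_d u) (Nat.mod (T_d u) M)) (nat_lit 40) (Nat.mod (T_d u) M) u) (lF [T_t, T_T, T_d, T_Ti, T_ti] M (Nat.sub (T_d u) (Nat.mod (T_d u) M)) (Nat.mod (T_d u) M) u) (Nat.ble (nat_lit 16) j)
noncomputable def dp_d_8 (j u : ℕ) : Bool :=
  Bool.rec (motive := fun _ => Bool) (lS MG [T_c, T_di, T_ci, T_di, T_c] M (Nat.sub (T_d u) (Nat.mod (T_d u) M)) (nat_lit 40) (Nat.mod (T_d u) M) u) (lS MG [T_ci, T_di, T_ci, T_d, T_c] M (Nat.sub (T_d u) (Nat.mod (T_d u) M)) (nat_lit 40) (Nat.mod (T_d u) M) u) (Nat.ble (nat_lit 19) j)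
noncomputable def dp_d_9 (j u : ℕ) : Bool :=
  Bool.rec (motive := fun _ => Bool) (lF [T_ai, T_di, T_a, T_di, T_ai] M (Nat.sub (T_d u) (Nat.mod (T_d u) M)) (Nat.mod (T_d u) M) u) (dp_d_8 j u) (Nat.ble (nat_lit 18) j)
noncomputable def dp_d_10 (j u : ℕ) : Bool :=
  Bool.rec (motive := fun _ => Bool) (lS MG [T_ti, T_b, T_ti, T_bi, T_t] M (Nat.sub (T_d u) (Nat.mod (T_d u) M)) (nat_lit 40) (Nat.mod (T_d u) M) u) (lS MG [T_Ti, T_ti, T_d, T_t, T_T] M (Nat.sub (T_d u) (Nat.mod (T_d u) M)) (nat_lit 40) (Nat.mod (T_d u) M) u) (Nat.ble (nat_lit 22) j)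
noncomputable def dp_d_11 (j u : ℕ) : Bool :=
  Bool.rec (motive := fun _ => Bool) (lS MG [T_c, T_d, T_ci, T_di, T_ci] M (Nat.sub (T_d u) (Nat.mod (T_d u) M)) (nat_lit 40) (Nat.mod (T_d u) M) u) (dp_d_10 j u) (Nat.ble (nat_lit 21) j)
noncomputable def dp_d_12 (j u : ℕ) : Bool :=
  Bool.rec (motive := fun _ => Bool) (lS MG [T_a, T_di, T_a, T_d, T_ai] M (Nat.sub (T_d u) (Nat.mod (T_d u) M)) (nat_lit 40) (Nat.mod (T_d u) M) u) (lS MG [T_bi, T_t, T_b, T_ti, T_b] M (Nat.sub (T_d u) (Nat.mod (T_d u) M)) (nat_lit 40) (Nat.mod (T_d u) M) u) (Nat.ble (nat_lit 25) j)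
noncomputable def dp_d_13 (j u : ℕ) : Bool :=
  Bool.rec (motive := fun _ => Bool) (lS MG [T_zi, T_di, T_z] M (Nat.sub (T_d u) (Nat.mod (T_d u) M)) (nat_lit 40) (Nat.mod (T_d u) M) u) (dp_d_12 j u) (Nat.ble (nat_lit 24) j)
noncomputable def dp_d_14 (j u : ℕ) : Bool :=
  Bool.rec (motive := fun _ => Bool) (lS MG [T_ai, T_di, T_a, T_di, T_ai] M (Nat.sub (T_d u) (Nat.mod (T_d u) M)) (nat_lit 40) (Nat.mod (T_d u) M) u) (lS MG [T_ai, T_d, T_a, T_di, T_a] M (Nat.sub (T_d u) (Nat.mod (T_d u) M)) (nat_lit 40) (Nat.mod (T_d u) M) u) (Nat.ble (nat_lit 27) j)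
noncomputable def dp_d_15 (j u : ℕ) : Bool :=
  Bool.rec (motive := fun _ => Bool) (lS MG [T_t, T_a, T_ti, T_di, T_a] M (Nat.sub (T_d u) (Nat.mod (T_d u) M)) (nat_lit 40) (Nat.mod (T_d u) M) u) (lH [] [] M (Nat.sub (T_d u) (Nat.mod (T_d u) M)) (Nat.mod (T_d u) M) u) (Nat.ble (nat_lit 29) j)
noncomputable def dp_d_16 (j u : ℕ) : Bool :=
  Bool.rec (motive := fun _ => Bool) (lS MG [T_z, T_di, T_zi] M (Nat.sub (T_d u) (Nat.mod (T_d u) M)) (nat_lit 40) (Nat.mod (T_d u) M) u) (lS MG [T_t, T_T, T_d, T_Ti, T_ti] M (Nat.sub (T_d u) (Nat.mod (T_d u) M)) (nat_lit 40) (Nat.mod (T_d u) M) u) (Nat.ble (nat_lit 32) j)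
noncomputable def dp_d_17 (j u : ℕ) : Bool :=
  Bool.rec (motive := fun _ => Bool) (lS MG [T_t, T_ai, T_ti, T_di, T_ai] M (Nat.sub (T_d u) (Nat.mod (T_d u) M)) (nat_lit 40) (Nat.mod (T_d u) M) u) (dp_d_16 j u) (Nat.ble (nat_lit 31) j)
noncomputable def dp_d_18 (j u : ℕ) : Bool :=
  Bool.rec (motive := fun _ => Bool) (dp_d_15 j u) (dp_d_17 j u) (Nat.ble (nat_lit 30) j)
noncomputable def dp_d_19 (j u : ℕ) : Bool :=
  Bool.rec (motive := fun _ => Bool) (dp_d_14 j u) (dp_d_18 j u) (Nat.ble (nat_lit 28) j)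
noncomputable def dp_d_20 (j u : ℕ) : Bool :=
  Bool.rec (motive := fun _ => Bool) (dp_d_13 j u) (dp_d_19 j u) (Nat.ble (nat_lit 26) j)
noncomputable def dp_d_21 (j u : ℕ) : Bool :=
  Bool.rec (motive := fun _ => Bool) (dp_d_11 j u) (dp_d_20 j u) (Nat.ble (nat_lit 23) j)
noncomputable def dp_d_22 (j u : ℕ) : Bool :=
  Bool.rec (motive := fun _ => Bool) (dp_d_9 j u) (dp_d_21 j u) (Nat.ble (nat_lit 20) j)
noncomputable def dp_d_23 (j u : ℕ) : Bool :=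
  Bool.rec (motive := fun _ => Bool) (dp_d_7 j u) (dp_d_22 j u) (Nat.ble (nat_lit 17) j)
noncomputable def dp_d_24 (j u : ℕ) : Bool :=
  Bool.rec (motive := fun _ => Bool) (dp_d_6 j u) (dp_d_23 j u) (Nat.ble (nat_lit 15) j)
noncomputable def dp_d_25 (j u : ℕ) : Bool :=
  Bool.rec (motive := fun _ => Bool) (dp_d_4 j u) (dp_d_24 j u) (Nat.ble (nat_lit 12) j)
noncomputable def dp_d_26 (j u : ℕ) : Bool :=
  Bool.rec (motive := fun _ => Bool) (Bool.rec (motive := fun _ => Bool) (Bool.rec (motive := fun _ => Bool) (lF3 T_zi T_di T_z M (Nat.sub (T_d u) (Nat.mod (T_d u) M)) (Nat.mod (T_d u) M) u) (lDef P (nat_lit 6) (Nat.mod (T_d u) M) u) (Nat.ble (nat_lit 4) j)) (dp_d_1 j u) (Nat.ble (nat_lit 5) j)) (dp_d_25 j u) (Nat.ble (nat_lit 8) j)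
noncomputable def disp_d (j u : ℕ) : Bool :=
  Bool.rec (motive := fun _ => Bool) (Bool.rec (motive := fun _ => Bool) (lF1 T_di M (Nat.sub (T_d u) (Nat.mod (T_d u) M)) (Nat.mod (T_d u) M) u) (Bool.rec (motive := fun _ => Bool) (lF3 T_z T_di T_zi M (Nat.sub (T_d u) (Nat.mod (T_d u) M)) (Nat.mod (T_d u) M) u) (lDef P (nat_lit 7) u (Nat.mod (T_d u) M)) (Nat.ble (nat_lit 2) j)) (Nat.ble (nat_lit 1) j)) (dp_d_26 j u) (Nat.ble (nat_lit 3) j)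
noncomputable def chk_d (j u : ℕ) : Bool :=
  Bool.rec (motive := fun _ => Bool) (disp_d j u) (Nat.ble (Nat.succ (MG u)) A) (Nat.ble A (T_d u))
noncomputable def dp_di_0 (j u : ℕ) : Bool :=
  Bool.rec (motive := fun _ => Bool) (lDef P (nat_lit 6) u (Nat.mod (T_di u) M)) (lF [T_bi, T_t, T_bi, T_ti, T_b] M (Nat.sub (T_di u) (Nat.mod (T_di u) M)) (Nat.mod (T_di u) M) u) (Nat.ble (nat_lit 5) j)
noncomputable def dp_di_1 (j u : ℕ) : Bool :=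
  Bool.rec (motive := fun _ => Bool) (lF [T_Ti, T_ti, T_di, T_t, T_T] M (Nat.sub (T_di u) (Nat.mod (T_di u) M)) (Nat.mod (T_di u) M) u) (lF [T_c, T_d, T_c, T_di, T_ci] M (Nat.sub (T_di u) (Nat.mod (T_di u) M)) (Nat.mod (T_di u) M) u) (Nat.ble (nat_lit 7) j)
noncomputable def dp_di_2 (j u : ℕ) : Bool :=
  Bool.rec (motive := fun _ => Bool) (lF [T_ci, T_di, T_c, T_d, T_c] M (Nat.sub (T_di u) (Nat.mod (T_di u) M)) (Nat.mod (T_di u) M) u) (lF [T_ci, T_d, T_c, T_d, T_ci] M (Nat.sub (T_di u) (Nat.mod (T_di u) M)) (Nat.mod (T_di u) M) u) (Nat.ble (nat_lit 10) j)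
noncomputable def dp_di_3 (j u : ℕ) : Bool :=
  Bool.rec (motive := fun _ => Bool) (lF [T_ti, T_b, T_t, T_bi, T_t] M (Nat.sub (T_di u) (Nat.mod (T_di u) M)) (Nat.mod (T_di u) M) u) (dp_di_2 j u) (Nat.ble (nat_lit 9) j)
noncomputable def dp_di_4 (j u : ℕ) : Bool :=
  Bool.rec (motive := fun _ => Bool) (lF [T_a, T_di, T_ai, T_d, T_ai] M (Nat.sub (T_di u) (Nat.mod (T_di u) M)) (Nat.mod (T_di u) M) u) (lF [T_ai, T_d, T_ai, T_di, T_a] M (Nat.sub (T_di u) (Nat.mod (T_di u) M)) (Nat.mod (T_di u) M) u) (Nat.ble (nat_lit 12) j)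
noncomputable def dp_di_5 (j u : ℕ) : Bool :=
  Bool.rec (motive := fun _ => Bool) (lS MG [T_d] M (Nat.sub (T_di u) (Nat.mod (T_di u) M)) (nat_lit 40) (Nat.mod (T_di u) M) u) (lF [T_ai, T_d, T_t, T_ai, T_ti] M (Nat.sub (T_di u) (Nat.mod (T_di u) M)) (Nat.mod (T_di u) M) u) (Nat.ble (nat_lit 14) j)
noncomputable def dp_di_6 (j u : ℕ) : Bool :=
  Bool.rec (motive := fun _ => Bool) (dp_di_4 j u) (dp_di_5 j u) (Nat.ble (nat_lit 13) j)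
noncomputable def dp_di_7 (j u : ℕ) : Bool :=
  Bool.rec (motive := fun _ => Bool) (lF [T_a, T_d, T_t, T_a, T_ti] M (Nat.sub (T_di u) (Nat.mod (T_di u) M)) (Nat.mod (T_di u) M) u) (lF [T_t, T_T, T_di, T_Ti, T_ti] M (Nat.sub (T_di u) (Nat.mod (T_di u) M)) (Nat.mod (T_di u) M) u) (Nat.ble (nat_lit 16) j)
noncomputable def dp_di_8 (j u : ℕ) : Bool :=
  Bool.rec (motive := fun _ => Bool) (lS MG [T_ti, T_b, T_t, T_bi, T_t] M (Nat.sub (T_di u) (Nat.mod (T_di u) M)) (nat_lit 40) (Nat.mod (T_di u) M) u) (lS MG [T_c, T_d, T_c, T_di, T_ci] M (Nat.sub (T_di u) (Nat.mod (T_di u) M)) (nat_lit 40) (Nat.mod (T_di u) M) u) (Nat.ble (nat_lit 19) j)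
noncomputable def dp_di_9 (j u : ℕ) : Bool :=
  Bool.rec (motive := fun _ => Bool) (lF [T_a, T_d, T_ai, T_d, T_a] M (Nat.sub (T_di u) (Nat.mod (T_di u) M)) (Nat.mod (T_di u) M) u) (dp_di_8 j u) (Nat.ble (nat_lit 18) j)
noncomputable def dp_di_10 (j u : ℕ) : Bool :=
  Bool.rec (motive := fun _ => Bool) (lS MG [T_ci, T_di, T_c, T_d, T_c] M (Nat.sub (T_di u) (Nat.mod (T_di u) M)) (nat_lit 40) (Nat.mod (T_di u) M) u) (lS MG [T_ci, T_d, T_c, T_d, T_ci] M (Nat.sub (T_di u) (Nat.mod (T_di u) M)) (nat_lit 40) (Nat.mod (T_di u) M) u) (Nat.ble (nat_lit 21) j)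
noncomputable def dp_di_11 (j u : ℕ) : Bool :=
  Bool.rec (motive := fun _ => Bool) (lS MG [T_ai, T_d, T_t, T_ai, T_ti] M (Nat.sub (T_di u) (Nat.mod (T_di u) M)) (nat_lit 40) (Nat.mod (T_di u) M) u) (lS MG [T_zi, T_d, T_z] M (Nat.sub (T_di u) (Nat.mod (T_di u) M)) (nat_lit 40) (Nat.mod (T_di u) M) u) (Nat.ble (nat_lit 23) j)
noncomputable def dp_di_12 (j u : ℕ) : Bool :=
  Bool.rec (motive := fun _ => Bool) (dp_di_10 j u) (dp_di_11 j u) (Nat.ble (nat_lit 22) j)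
noncomputable def dp_di_13 (j u : ℕ) : Bool :=
  Bool.rec (motive := fun _ => Bool) (lS MG [T_bi, T_t, T_bi, T_ti, T_b] M (Nat.sub (T_di u) (Nat.mod (T_di u) M)) (nat_lit 40) (Nat.mod (T_di u) M) u) (lS MG [T_Ti, T_ti, T_di, T_t, T_T] M (Nat.sub (T_di u) (Nat.mod (T_di u) M)) (nat_lit 40) (Nat.mod (T_di u) M) u) (Nat.ble (nat_lit 26) j)
noncomputable def dp_di_14 (j u : ℕ) : Bool :=
  Bool.rec (motive := fun _ => Bool) (lS MG [T_ai, T_d, T_ai, T_di, T_a] M (Nat.sub (T_di u) (Nat.mod (T_di u) M)) (nat_lit 40) (Nat.mod (T_di u) M) u) (dp_di_13 j u) (Nat.ble (nat_lit 25) j)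
noncomputable def dp_di_15 (j u : ℕ) : Bool :=
  Bool.rec (motive := fun _ => Bool) (lS MG [T_a, T_di, T_ai, T_d, T_ai] M (Nat.sub (T_di u) (Nat.mod (T_di u) M)) (nat_lit 40) (Nat.mod (T_di u) M) u) (lS MG [T_a, T_d, T_t, T_a, T_ti] M (Nat.sub (T_di u) (Nat.mod (T_di u) M)) (nat_lit 40) (Nat.mod (T_di u) M) u) (Nat.ble (nat_lit 28) j)
noncomputable def dp_di_16 (j u : ℕ) : Bool :=
  Bool.rec (motive := fun _ => Bool) (lS MG [T_t, T_T, T_di, T_Ti, T_ti] M (Nat.sub (T_di u) (Nat.mod (T_di u) M)) (nat_lit 40) (Nat.mod (T_di u) M) u) (lS MG [T_a, T_d, T_ai, T_d, T_a] M (Nat.sub (T_di u) (Nat.mod (T_di u) M)) (nat_lit 40) (Nat.mod (T_di u) M) u) (Nat.ble (nat_lit 31) j)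
noncomputable def dp_di_17 (j u : ℕ) : Bool :=
  Bool.rec (motive := fun _ => Bool) (lS MG [T_z, T_d, T_zi] M (Nat.sub (T_di u) (Nat.mod (T_di u) M)) (nat_lit 40) (Nat.mod (T_di u) M) u) (dp_di_16 j u) (Nat.ble (nat_lit 30) j)
noncomputable def dp_di_18 (j u : ℕ) : Bool :=
  Bool.rec (motive := fun _ => Bool) (dp_di_15 j u) (dp_di_17 j u) (Nat.ble (nat_lit 29) j)
noncomputable def dp_di_19 (j u : ℕ) : Bool :=
  Bool.rec (motive := fun _ => Bool) (dp_di_14 j u) (dp_di_18 j u) (Nat.ble (nat_lit 27) j)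
noncomputable def dp_di_20 (j u : ℕ) : Bool :=
  Bool.rec (motive := fun _ => Bool) (dp_di_12 j u) (dp_di_19 j u) (Nat.ble (nat_lit 24) j)
noncomputable def dp_di_21 (j u : ℕ) : Bool :=
  Bool.rec (motive := fun _ => Bool) (dp_di_9 j u) (dp_di_20 j u) (Nat.ble (nat_lit 20) j)
noncomputable def dp_di_22 (j u : ℕ) : Bool :=
  Bool.rec (motive := fun _ => Bool) (dp_di_7 j u) (dp_di_21 j u) (Nat.ble (nat_lit 17) j)
noncomputable def dp_di_23 (j u : ℕ) : Bool :=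
  Bool.rec (motive := fun _ => Bool) (dp_di_6 j u) (dp_di_22 j u) (Nat.ble (nat_lit 15) j)
noncomputable def dp_di_24 (j u : ℕ) : Bool :=
  Bool.rec (motive := fun _ => Bool) (Bool.rec (motive := fun _ => Bool) (dp_di_1 j u) (dp_di_3 j u) (Nat.ble (nat_lit 8) j)) (dp_di_23 j u) (Nat.ble (nat_lit 11) j)
noncomputable def disp_di (j u : ℕ) : Bool :=
  Bool.rec (motive := fun _ => Bool) (Bool.rec (motive := fun _ => Bool) (lF1 T_d M (Nat.sub (T_di u) (Nat.mod (T_di u) M)) (Nat.mod (T_di u) M) u) (lF3 T_zi T_d T_z M (Nat.sub (T_di u) (Nat.mod (T_di u) M)) (Nat.mod (T_di u) M) u) (Nat.ble (nat_lit 1) j)) (Bool.rec (motive := fun _ => Bool) (Bool.rec (motive := fun _ => Bool) (Bool.rec (motive := fun _ => Bool) (lDef P (nat_lit 7) (Nat.mod (T_di u) M) u) (lF3 T_z T_d T_zi M (Nat.sub (T_di u) (Nat.mod (T_di u) M)) (Nat.mod (T_di u) M) u) (Nat.ble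 (nat_lit 3) j)) (dp_di_0 j u) (Nat.ble (nat_lit 4) j)) (dp_di_24 j u) (Nat.ble (nat_lit 6) j)) (Nat.ble (nat_lit 2) j)
noncomputable def chk_di (j u : ℕ) : Bool :=
  Bool.rec (motive := fun _ => Bool) (disp_di j u) (Nat.ble (Nat.succ (MG u)) A) (Nat.ble A (T_di u))
noncomputable def dp_t_0 (j u : ℕ) : Bool :=
  Bool.rec (motive := fun _ => Bool) (lF [T_bi, T_t, T_di, T_ti, T_b] M (Nat.sub (T_t u) (Nat.mod (T_t u) M)) (Nat.mod (T_t u) M) u) (lF [T_c, T_bi, T_ti, T_b, T_ci] M (Nat.sub (T_t u) (Nat.mod (T_t u) M)) (Nat.mod (T_t u) M) u) (Nat.ble (nat_lit 5) j)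
noncomputable def dp_t_1 (j u : ℕ) : Bool :=
  Bool.rec (motive := fun _ => Bool) (lDef P (nat_lit 8) (Nat.mod (T_t u) M) u) (lF [T_ai, T_ti, T_di, T_ai, T_d] M (Nat.sub (T_t u) (Nat.mod (T_t u) M)) (Nat.mod (T_t u) M) u) (Nat.ble (nat_lit 7) j)
noncomputable def dp_t_2 (j u : ℕ) : Bool :=
  Bool.rec (motive := fun _ => Bool) (lF [T_Ti, T_t, T_T, T_ti, T_T] M (Nat.sub (T_t u) (Nat.mod (T_t u) M)) (Nat.mod (T_t u) M) u) (lF [T_a, T_ti, T_di, T_a, T_d] M (Nat.sub (T_t u) (Nat.mod (T_t u) M)) (Nat.mod (T_t u) M) u) (Nat.ble (nat_lit 10) j)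
noncomputable def dp_t_3 (j u : ℕ) : Bool :=
  Bool.rec (motive := fun _ => Bool) (lF [T_Ti, T_ti, T_T, T_ti, T_Ti] M (Nat.sub (T_t u) (Nat.mod (T_t u) M)) (Nat.mod (T_t u) M) u) (dp_t_2 j u) (Nat.ble (nat_lit 9) j)
noncomputable def dp_t_4 (j u : ℕ) : Bool :=
  Bool.rec (motive := fun _ => Bool) (lF [T_T, T_di, T_Ti, T_ti, T_di] M (Nat.sub (T_t u) (Nat.mod (T_t u) M)) (Nat.mod (T_t u) M) u) (lF [T_di, T_ti, T_b, T_t, T_bi] M (Nat.sub (T_t u) (Nat.mod (T_t u) M)) (Nat.mod (T_t u) M) u) (Nat.ble (nat_lit 12) j)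
noncomputable def dp_t_5 (j u : ℕ) : Bool :=
  Bool.rec (motive := fun _ => Bool) (lF [T_T, T_ti, T_T, T_t, T_Ti] M (Nat.sub (T_t u) (Nat.mod (T_t u) M)) (Nat.mod (T_t u) M) u) (lF [T_T, T_d, T_Ti, T_ti, T_d] M (Nat.sub (T_t u) (Nat.mod (T_t u) M)) (Nat.mod (T_t u) M) u) (Nat.ble (nat_lit 14) j)
noncomputable def dp_t_6 (j u : ℕ) : Bool :=
  Bool.rec (motive := fun _ => Bool) (dp_t_4 j u) (dp_t_5 j u) (Nat.ble (nat_lit 13) j)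
noncomputable def dp_t_7 (j u : ℕ) : Bool :=
  Bool.rec (motive := fun _ => Bool) (lF [T_d, T_ti, T_b, T_ti, T_bi] M (Nat.sub (T_t u) (Nat.mod (T_t u) M)) (Nat.mod (T_t u) M) u) (lF [T_b, T_ti, T_b, T_d, T_bi] M (Nat.sub (T_t u) (Nat.mod (T_t u) M)) (Nat.mod (T_t u) M) u) (Nat.ble (nat_lit 17) j)
noncomputable def dp_t_8 (j u : ℕ) : Bool :=
  Bool.rec (motive := fun _ => Bool) (lS MG [T_ti] M (Nat.sub (T_t u) (Nat.mod (T_t u) M)) (nat_lit 40) (Nat.mod (T_t u) M) u) (dp_t_7 j u) (Nat.ble (nat_lit 16) j)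
noncomputable def dp_t_9 (j u : ℕ) : Bool :=
  Bool.rec (motive := fun _ => Bool) (lF [T_bi, T_ti, T_b, T_di, T_bi] M (Nat.sub (T_t u) (Nat.mod (T_t u) M)) (Nat.mod (T_t u) M) u) (lS MG [T_c, T_bi, T_ti, T_b, T_ci] M (Nat.sub (T_t u) (Nat.mod (T_t u) M)) (nat_lit 40) (Nat.mod (T_t u) M) u) (Nat.ble (nat_lit 20) j)
noncomputable def dp_t_10 (j u : ℕ) : Bool :=
  Bool.rec (motive := fun _ => Bool) (lF [T_b, T_ci, T_ti, T_c, T_bi] M (Nat.sub (T_t u) (Nat.mod (T_t u) M)) (Nat.mod (T_t u) M) u) (dp_t_9 j u) (Nat.ble (nat_lit 19) j)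
noncomputable def dp_t_11 (j u : ℕ) : Bool :=
  Bool.rec (motive := fun _ => Bool) (lS MG [T_ai, T_ti, T_di, T_ai, T_d] M (Nat.sub (T_t u) (Nat.mod (T_t u) M)) (nat_lit 40) (Nat.mod (T_t u) M) u) (lS MG [T_bi, T_ti, T_b, T_di, T_bi] M (Nat.sub (T_t u) (Nat.mod (T_t u) M)) (nat_lit 40) (Nat.mod (T_t u) M) u) (Nat.ble (nat_lit 23) j)
noncomputable def dp_t_12 (j u : ℕ) : Bool :=
  Bool.rec (motive := fun _ => Bool) (lS MG [T_Ti, T_t, T_T, T_ti, T_T] M (Nat.sub (T_t u) (Nat.mod (T_t u) M)) (nat_lit 40) (Nat.mod (T_t u) M) u) (dp_t_11 j u) (Nat.ble (nat_lit 22) j)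
noncomputable def dp_t_13 (j u : ℕ) : Bool :=
  Bool.rec (motive := fun _ => Bool) (lS MG [T_bi, T_t, T_di, T_ti, T_b] M (Nat.sub (T_t u) (Nat.mod (T_t u) M)) (nat_lit 40) (Nat.mod (T_t u) M) u) (lS MG [T_a, T_ti, T_di, T_a, T_d] M (Nat.sub (T_t u) (Nat.mod (T_t u) M)) (nat_lit 40) (Nat.mod (T_t u) M) u) (Nat.ble (nat_lit 25) j)
noncomputable def dp_t_14 (j u : ℕ) : Bool :=
  Bool.rec (motive := fun _ => Bool) (lS MG [T_Ti, T_ti, T_T, T_ti, T_Ti] M (Nat.sub (T_t u) (Nat.mod (T_t u) M)) (nat_lit 40) (Nat.mod (T_t u) M) u) (lS MG [T_b, T_ti, T_b, T_d, T_bi] M (Nat.sub (T_t u) (Nat.mod (T_t u) M)) (nat_lit 40) (Nat.mod (T_t u) M) u) (Nat.ble (nat_lit 27) j)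
noncomputable def dp_t_15 (j u : ℕ) : Bool :=
  Bool.rec (motive := fun _ => Bool) (lS MG [T_z, T_ti, T_zi] M (Nat.sub (T_t u) (Nat.mod (T_t u) M)) (nat_lit 40) (Nat.mod (T_t u) M) u) (lS MG [T_T, T_d, T_Ti, T_ti, T_d] M (Nat.sub (T_t u) (Nat.mod (T_t u) M)) (nat_lit 40) (Nat.mod (T_t u) M) u) (Nat.ble (nat_lit 31) j)
noncomputable def dp_t_16 (j u : ℕ) : Bool :=
  Bool.rec (motive := fun _ => Bool) (lH [] [] M (Nat.sub (T_t u) (Nat.mod (T_t u) M)) (Nat.mod (T_t u) M) u) (dp_t_15 j u) (Nat.ble (nat_lit 30) j)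
noncomputable def dp_t_17 (j u : ℕ) : Bool :=
  Bool.rec (motive := fun _ => Bool) (lS MG [T_T, T_ti, T_T, T_t, T_Ti] M (Nat.sub (T_t u) (Nat.mod (T_t u) M)) (nat_lit 40) (Nat.mod (T_t u) M) u) (dp_t_16 j u) (Nat.ble (nat_lit 29) j)
noncomputable def dp_t_18 (j u : ℕ) : Bool :=
  Bool.rec (motive := fun _ => Bool) (dp_t_14 j u) (dp_t_17 j u) (Nat.ble (nat_lit 28) j)
noncomputable def dp_t_19 (j u : ℕ) : Bool :=
  Bool.rec (motive := fun _ => Bool) (dp_t_13 j u) (dp_t_18 j u) (Nat.ble (nat_lit 26) j)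
noncomputable def dp_t_20 (j u : ℕ) : Bool :=
  Bool.rec (motive := fun _ => Bool) (dp_t_12 j u) (dp_t_19 j u) (Nat.ble (nat_lit 24) j)
noncomputable def dp_t_21 (j u : ℕ) : Bool :=
  Bool.rec (motive := fun _ => Bool) (dp_t_10 j u) (dp_t_20 j u) (Nat.ble (nat_lit 21) j)
noncomputable def dp_t_22 (j u : ℕ) : Bool :=
  Bool.rec (motive := fun _ => Bool) (dp_t_8 j u) (dp_t_21 j u) (Nat.ble (nat_lit 18) j)
noncomputable def dp_t_23 (j u : ℕ) : Bool :=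
  Bool.rec (motive := fun _ => Bool) (dp_t_6 j u) (dp_t_22 j u) (Nat.ble (nat_lit 15) j)
noncomputable def dp_t_24 (j u : ℕ) : Bool :=
  Bool.rec (motive := fun _ => Bool) (Bool.rec (motive := fun _ => Bool) (dp_t_1 j u) (dp_t_3 j u) (Nat.ble (nat_lit 8) j)) (dp_t_23 j u) (Nat.ble (nat_lit 11) j)
noncomputable def disp_t (j u : ℕ) : Bool :=
  Bool.rec (motive := fun _ => Bool) (Bool.rec (motive := fun _ => Bool) (lF1 T_ti M (Nat.sub (T_t u) (Nat.mod (T_t u) M)) (Nat.mod (T_t u) M) u) (lF3 T_zi T_ti T_z M (Nat.sub (T_t u) (Nat.mod (T_t u) M)) (Nat.mod (T_t u) M) u) (Nat.ble (nat_lit 1) j)) (Bool.rec (motive := fun _ => Bool) (Bool.rec (motive := fun _ => Bool) (Bool.rec (motive := fun _ => Bool) (lF3 T_z T_ti T_zi M (Nat.sub (T_t u) (Nat.mod (T_t u) M)) (Nat.mod (T_t u) M) u) (lDef P (nat_lit 9) u (Nat.mod (T_t u) M)) (Nat.ble (nat_lit 3) j))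 (dp_t_0 j u) (Nat.ble (nat_lit 4) j)) (dp_t_24 j u) (Nat.ble (nat_lit 6) j)) (Nat.ble (nat_lit 2) j)
noncomputable def chk_t (j u : ℕ) : Bool :=
  Bool.rec (motive := fun _ => Bool) (disp_t j u) (Nat.ble (Nat.succ (MG u)) A) (Nat.ble A (T_t u))
noncomputable def dp_ti_0 (j u : ℕ) : Bool :=
  Bool.rec (motive := fun _ => Bool) (lF [T_bi, T_t, T_d, T_ti, T_b] M (Nat.sub (T_ti u) (Nat.mod (T_ti u) M)) (Nat.mod (T_ti u) M) u) (lDef P (nat_lit 8) u (Nat.mod (T_ti u) M)) (Nat.ble (nat_lit 6) j)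
noncomputable def dp_ti_1 (j u : ℕ) : Bool :=
  Bool.rec (motive := fun _ => Bool) (lF [T_di, T_a, T_d, T_t, T_a] M (Nat.sub (T_ti u) (Nat.mod (T_ti u) M)) (Nat.mod (T_ti u) M) u) (lF [T_T, T_t, T_Ti, T_t, T_T] M (Nat.sub (T_ti u) (Nat.mod (T_ti u) M)) (Nat.mod (T_ti u) M) u) (Nat.ble (nat_lit 8) j)
noncomputable def dp_ti_2 (j u : ℕ) : Bool :=
  Bool.rec (motive := fun _ => Bool) (lF [T_di, T_ai, T_d, T_t, T_ai] M (Nat.sub (T_ti u) (Nat.mod (T_ti u) M)) (Nat.mod (T_ti u) M) u) (lF [T_T, T_ti, T_Ti, T_t, T_Ti] M (Nat.sub (T_ti u) (Nat.mod (T_ti u) M)) (Nat.mod (T_ti u) M) u) (Nat.ble (nat_lit 11) j)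
noncomputable def dp_ti_3 (j u : ℕ) : Bool :=
  Bool.rec (motive := fun _ => Bool) (lF [T_d, T_t, T_T, T_d, T_Ti] M (Nat.sub (T_ti u) (Nat.mod (T_ti u) M)) (Nat.mod (T_ti u) M) u) (dp_ti_2 j u) (Nat.ble (nat_lit 10) j)
noncomputable def dp_ti_4 (j u : ℕ) : Bool :=
  Bool.rec (motive := fun _ => Bool) (dp_ti_1 j u) (dp_ti_3 j u) (Nat.ble (nat_lit 9) j)
noncomputable def dp_ti_5 (j u : ℕ) : Bool :=
  Bool.rec (motive := fun _ => Bool) (lF [T_Ti, T_t, T_Ti, T_ti, T_T] M (Nat.sub (T_ti u) (Nat.mod (T_ti u) M)) (Nat.mod (T_ti u) M) u) (lF [T_di, T_t, T_T, T_di, T_Ti] M (Nat.sub (T_ti u) (Nat.mod (T_ti u) M)) (Nat.mod (T_ti u) M) u) (Nat.ble (nat_lit 13) j)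
noncomputable def dp_ti_6 (j u : ℕ) : Bool :=
  Bool.rec (motive := fun _ => Bool) (lF [T_b, T_ti, T_bi, T_t, T_d] M (Nat.sub (T_ti u) (Nat.mod (T_ti u) M)) (Nat.mod (T_ti u) M) u) (lS MG [T_t] M (Nat.sub (T_ti u) (Nat.mod (T_ti u) M)) (nat_lit 40) (Nat.mod (T_ti u) M) u) (Nat.ble (nat_lit 15) j)
noncomputable def dp_ti_7 (j u : ℕ) : Bool :=
  Bool.rec (motive := fun _ => Bool) (dp_ti_5 j u) (dp_ti_6 j u) (Nat.ble (nat_lit 14) j)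
noncomputable def dp_ti_8 (j u : ℕ) : Bool :=
  Bool.rec (motive := fun _ => Bool) (lF [T_b, T_ci, T_t, T_c, T_bi] M (Nat.sub (T_ti u) (Nat.mod (T_ti u) M)) (Nat.mod (T_ti u) M) u) (lF [T_b, T_t, T_bi, T_t, T_di] M (Nat.sub (T_ti u) (Nat.mod (T_ti u) M)) (Nat.mod (T_ti u) M) u) (Nat.ble (nat_lit 18) j)
noncomputable def dp_ti_9 (j u : ℕ) : Bool :=
  Bool.rec (motive := fun _ => Bool) (lF [T_b, T_d, T_bi, T_t, T_b] M (Nat.sub (T_ti u) (Nat.mod (T_ti u) M)) (Nat.mod (T_ti u) M) u) (dp_ti_8 j u) (Nat.ble (nat_lit 17) j)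
noncomputable def dp_ti_10 (j u : ℕ) : Bool :=
  Bool.rec (motive := fun _ => Bool) (lS MG [T_c, T_bi, T_t, T_b, T_ci] M (Nat.sub (T_ti u) (Nat.mod (T_ti u) M)) (nat_lit 40) (Nat.mod (T_ti u) M) u) (lS MG [T_bi, T_t, T_d, T_ti, T_b] M (Nat.sub (T_ti u) (Nat.mod (T_ti u) M)) (nat_lit 40) (Nat.mod (T_ti u) M) u) (Nat.ble (nat_lit 21) j)
noncomputable def dp_ti_11 (j u : ℕ) : Bool :=
  Bool.rec (motive := fun _ => Bool) (lF [T_b, T_di, T_bi, T_t, T_bi] M (Nat.sub (T_ti u) (Nat.mod (T_ti u) M)) (Nat.mod (T_ti u) M) u) (dp_ti_10 j u) (Nat.ble (nat_lit 20) j)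
noncomputable def dp_ti_12 (j u : ℕ) : Bool :=
  Bool.rec (motive := fun _ => Bool) (lS MG [T_di, T_a, T_d, T_t, T_a] M (Nat.sub (T_ti u) (Nat.mod (T_ti u) M)) (nat_lit 40) (Nat.mod (T_ti u) M) u) (lS MG [T_d, T_t, T_T, T_d, T_Ti] M (Nat.sub (T_ti u) (Nat.mod (T_ti u) M)) (nat_lit 40) (Nat.mod (T_ti u) M) u) (Nat.ble (nat_lit 23) j)
noncomputable def dp_ti_13 (j u : ℕ) : Bool :=
  Bool.rec (motive := fun _ => Bool) (lS MG [T_b, T_d, T_bi, T_t, T_b] M (Nat.sub (T_ti u) (Nat.mod (T_ti u) M)) (nat_lit 40) (Nat.mod (T_ti u) M) u) (lS MG [T_b, T_ci, T_t, T_c, T_bi] M (Nat.sub (T_ti u) (Nat.mod (T_ti u) M)) (nat_lit 40) (Nat.mod (T_ti u) M) u) (Nat.ble (nat_lit 25) j)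
noncomputable def dp_ti_14 (j u : ℕ) : Bool :=
  Bool.rec (motive := fun _ => Bool) (dp_ti_12 j u) (dp_ti_13 j u) (Nat.ble (nat_lit 24) j)
noncomputable def dp_ti_15 (j u : ℕ) : Bool :=
  Bool.rec (motive := fun _ => Bool) (lS MG [T_T, T_t, T_Ti, T_t, T_T] M (Nat.sub (T_ti u) (Nat.mod (T_ti u) M)) (nat_lit 40) (Nat.mod (T_ti u) M) u) (lS MG [T_b, T_di, T_bi, T_t, T_bi] M (Nat.sub (T_ti u) (Nat.mod (T_ti u) M)) (nat_lit 40) (Nat.mod (T_ti u) M) u) (Nat.ble (nat_lit 28) j)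
noncomputable def dp_ti_16 (j u : ℕ) : Bool :=
  Bool.rec (motive := fun _ => Bool) (lS MG [T_di, T_ai, T_d, T_t, T_ai] M (Nat.sub (T_ti u) (Nat.mod (T_ti u) M)) (nat_lit 40) (Nat.mod (T_ti u) M) u) (dp_ti_15 j u) (Nat.ble (nat_lit 27) j)
noncomputable def dp_ti_17 (j u : ℕ) : Bool :=
  Bool.rec (motive := fun _ => Bool) (lS MG [T_z, T_t, T_zi] M (Nat.sub (T_ti u) (Nat.mod (T_ti u) M)) (nat_lit 40) (Nat.mod (T_ti u) M) u) (lS MG [T_b, T_ti, T_bi, T_t, T_d] M (Nat.sub (T_ti u) (Nat.mod (T_ti u) M)) (nat_lit 40) (Nat.mod (T_ti u) M) u) (Nat.ble (nat_lit 30) j)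
noncomputable def dp_ti_18 (j u : ℕ) : Bool :=
  Bool.rec (motive := fun _ => Bool) (lS MG [T_di, T_t, T_T, T_di, T_Ti] M (Nat.sub (T_ti u) (Nat.mod (T_ti u) M)) (nat_lit 40) (Nat.mod (T_ti u) M) u) (lS MG [T_b, T_t, T_bi, T_t, T_di] M (Nat.sub (T_ti u) (Nat.mod (T_ti u) M)) (nat_lit 40) (Nat.mod (T_ti u) M) u) (Nat.ble (nat_lit 32) j)
noncomputable def dp_ti_19 (j u : ℕ) : Bool :=
  Bool.rec (motive := fun _ => Bool) (lS MG [T_T, T_ti, T_Ti, T_t, T_Ti] M (Nat.sub (T_ti u) (Nat.mod (T_ti u) M)) (nat_lit 40) (Nat.mod (T_ti u) M) u) (lS MG [T_ci, T_bi, T_ai, T_bi, T_t, T_Ti, T_bi, T_di, T_ci, T_a, T_ti, T_ci, T_bi, T_ai, T_bi, T_t, T_Ti, T_bi, T_di, T_ci, T_a, T_ti, T_ci, T_bi, T_ai, T_bi, T_t, T_Ti, T_bi, T_di, T_ci, T_a, T_ti, T_ci, T_bi, T_ai, T_bi, T_t, T_Ti, T_z, T_bi, T_di, T_ci, T_a] M (Nat.sub (T_ti u) (Nat.mod (T_ti u) M)) (nat_lit 40)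 (Nat.mod (T_ti u) M) u) (Nat.ble (nat_lit 34) j)
noncomputable def dp_ti_20 (j u : ℕ) : Bool :=
  Bool.rec (motive := fun _ => Bool) (dp_ti_18 j u) (dp_ti_19 j u) (Nat.ble (nat_lit 33) j)
noncomputable def dp_ti_21 (j u : ℕ) : Bool :=
  Bool.rec (motive := fun _ => Bool) (dp_ti_17 j u) (dp_ti_20 j u) (Nat.ble (nat_lit 31) j)
noncomputable def dp_ti_22 (j u : ℕ) : Bool :=
  Bool.rec (motive := fun _ => Bool) (dp_ti_16 j u) (dp_ti_21 j u) (Nat.ble (nat_lit 29) j)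
noncomputable def dp_ti_23 (j u : ℕ) : Bool :=
  Bool.rec (motive := fun _ => Bool) (dp_ti_14 j u) (dp_ti_22 j u) (Nat.ble (nat_lit 26) j)
noncomputable def dp_ti_24 (j u : ℕ) : Bool :=
  Bool.rec (motive := fun _ => Bool) (dp_ti_11 j u) (dp_ti_23 j u) (Nat.ble (nat_lit 22) j)
noncomputable def dp_ti_25 (j u : ℕ) : Bool :=
  Bool.rec (motive := fun _ => Bool) (dp_ti_9 j u) (dp_ti_24 j u) (Nat.ble (nat_lit 19) j)
noncomputable def dp_ti_26 (j u : ℕ) : Bool :=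
  Bool.rec (motive := fun _ => Bool) (dp_ti_7 j u) (dp_ti_25 j u) (Nat.ble (nat_lit 16) j)
noncomputable def dp_ti_27 (j u : ℕ) : Bool :=
  Bool.rec (motive := fun _ => Bool) (dp_ti_4 j u) (dp_ti_26 j u) (Nat.ble (nat_lit 12) j)
noncomputable def dp_ti_28 (j u : ℕ) : Bool :=
  Bool.rec (motive := fun _ => Bool) (Bool.rec (motive := fun _ => Bool) (Bool.rec (motive := fun _ => Bool) (lF3 T_z T_t T_zi M (Nat.sub (T_ti u) (Nat.mod (T_ti u) M)) (Nat.mod (T_ti u) M) u) (lDef P (nat_lit 9) (Nat.mod (T_ti u) M) u) (Nat.ble (nat_lit 3) j)) (Bool.rec (motive := fun _ => Bool) (lF [T_c, T_bi, T_t, T_b, T_ci] M (Nat.sub (T_ti u) (Nat.mod (T_ti u) M)) (Nat.mod (T_ti u) M) u) (dp_ti_0 j u) (Nat.ble (nat_lit 5) j)) (Nat.ble (nat_lit 4) j)) (dp_ti_27 j u) (Nat.ble (nat_lit 7) j)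
noncomputable def disp_ti (j u : ℕ) : Bool :=
  Bool.rec (motive := fun _ => Bool) (Bool.rec (motive := fun _ => Bool) (lF1 T_t M (Nat.sub (T_ti u) (Nat.mod (T_ti u) M)) (Nat.mod (T_ti u) M) u) (lF3 T_zi T_t T_z M (Nat.sub (T_ti u) (Nat.mod (T_ti u) M)) (Nat.mod (T_ti u) M) u) (Nat.ble (nat_lit 1) j)) (dp_ti_28 j u) (Nat.ble (nat_lit 2) j)
noncomputable def chk_ti (j u : ℕ) : Bool :=
  Bool.rec (motive := fun _ => Bool) (disp_ti j u) (Nat.ble (Nat.succ (MG u)) A) (Nat.ble A (T_ti u))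
noncomputable def dp_T_0 (j u : ℕ) : Bool :=
  Bool.rec (motive := fun _ => Bool) (lF [T_ci, T_a, T_Ti, T_ai, T_c] M (Nat.sub (T_T u) (Nat.mod (T_T u) M)) (Nat.mod (T_T u) M) u) (lF [T_t, T_Ti, T_t, T_T, T_ti] M (Nat.sub (T_T u) (Nat.mod (T_T u) M)) (Nat.mod (T_T u) M) u) (Nat.ble (nat_lit 6) j)
noncomputable def dp_T_1 (j u : ℕ) : Bool :=
  Bool.rec (motive := fun _ => Bool) (lF [T_di, T_Ti, T_ti, T_di, T_t] M (Nat.sub (T_T u) (Nat.mod (T_T u) M)) (Nat.mod (T_T u) M) u) (lF [T_ai, T_c, T_Ti, T_ci, T_a] M (Nat.sub (T_T u) (Nat.mod (T_T u) M)) (Nat.mod (T_T u) M) u) (Nat.ble (nat_lit 9) j)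
noncomputable def dp_T_2 (j u : ℕ) : Bool :=
  Bool.rec (motive := fun _ => Bool) (lF [T_c, T_a, T_Ti, T_ai, T_ci] M (Nat.sub (T_T u) (Nat.mod (T_T u) M)) (Nat.mod (T_T u) M) u) (dp_T_1 j u) (Nat.ble (nat_lit 8) j)
noncomputable def dp_T_3 (j u : ℕ) : Bool :=
  Bool.rec (motive := fun _ => Bool) (lF [T_d, T_Ti, T_ti, T_d, T_t] M (Nat.sub (T_T u) (Nat.mod (T_T u) M)) (Nat.mod (T_T u) M) u) (lF [T_b, T_c, T_Ti, T_ci, T_bi] M (Nat.sub (T_T u) (Nat.mod (T_T u) M)) (Nat.mod (T_T u) M) u) (Nat.ble (nat_lit 12) j)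
noncomputable def dp_T_4 (j u : ℕ) : Bool :=
  Bool.rec (motive := fun _ => Bool) (lF [T_ai, T_ci, T_Ti, T_c, T_a] M (Nat.sub (T_T u) (Nat.mod (T_T u) M)) (Nat.mod (T_T u) M) u) (dp_T_3 j u) (Nat.ble (nat_lit 11) j)
noncomputable def dp_T_5 (j u : ℕ) : Bool :=
  Bool.rec (motive := fun _ => Bool) (lF [T_ci, T_bi, T_Ti, T_b, T_c] M (Nat.sub (T_T u) (Nat.mod (T_T u) M)) (Nat.mod (T_T u) M) u) (lF [T_ti, T_T, T_t, T_Ti, T_t] M (Nat.sub (T_T u) (Nat.mod (T_T u) M)) (Nat.mod (T_T u) M) u) (Nat.ble (nat_lit 14) j)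
noncomputable def dp_T_6 (j u : ℕ) : Bool :=
  Bool.rec (motive := fun _ => Bool) (lS MG [T_di, T_Ti, T_ti, T_di, T_t] M (Nat.sub (T_T u) (Nat.mod (T_T u) M)) (nat_lit 40) (Nat.mod (T_T u) M) u) (lS MG [T_t, T_Ti, T_t, T_T, T_ti] M (Nat.sub (T_T u) (Nat.mod (T_T u) M)) (nat_lit 40) (Nat.mod (T_T u) M) u) (Nat.ble (nat_lit 19) j)
noncomputable def dp_T_7 (j u : ℕ) : Bool :=
  Bool.rec (motive := fun _ => Bool) (lS MG [T_ai, T_c, T_Ti, T_ci, T_a] M (Nat.sub (T_T u) (Nat.mod (T_T u) M)) (nat_lit 40) (Nat.mod (T_T u) M) u) (dp_T_6 j u) (Nat.ble (nat_lit 18) j)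
noncomputable def dp_T_8 (j u : ℕ) : Bool :=
  Bool.rec (motive := fun _ => Bool) (lS MG [T_d, T_Ti, T_ti, T_d, T_t] M (Nat.sub (T_T u) (Nat.mod (T_T u) M)) (nat_lit 40) (Nat.mod (T_T u) M) u) (lS MG [T_b, T_c, T_Ti, T_ci, T_bi] M (Nat.sub (T_T u) (Nat.mod (T_T u) M)) (nat_lit 40) (Nat.mod (T_T u) M) u) (Nat.ble (nat_lit 21) j)
noncomputable def dp_T_9 (j u : ℕ) : Bool :=
  Bool.rec (motive := fun _ => Bool) (lS MG [T_c, T_a, T_Ti, T_ai, T_ci] M (Nat.sub (T_T u) (Nat.mod (T_T u) M)) (nat_lit 40) (Nat.mod (T_T u) M) u) (lS MG [T_ai, T_ci, T_Ti, T_c, T_a] M (Nat.sub (T_T u) (Nat.mod (T_T u) M)) (nat_lit 40) (Nat.mod (T_T u) M) u) (Nat.ble (nat_lit 23) j)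
noncomputable def dp_T_10 (j u : ℕ) : Bool :=
  Bool.rec (motive := fun _ => Bool) (lS MG [T_zi, T_Ti, T_z] M (Nat.sub (T_T u) (Nat.mod (T_T u) M)) (nat_lit 40) (Nat.mod (T_T u) M) u) (lS MG [T_ci, T_a, T_Ti, T_ai, T_c] M (Nat.sub (T_T u) (Nat.mod (T_T u) M)) (nat_lit 40) (Nat.mod (T_T u) M) u) (Nat.ble (nat_lit 27) j)
noncomputable def dp_T_11 (j u : ℕ) : Bool :=
  Bool.rec (motive := fun _ => Bool) (lS MG [T_ci, T_bi, T_Ti, T_b, T_c] M (Nat.sub (T_T u) (Nat.mod (T_T u) M)) (nat_lit 40) (Nat.mod (T_T u) M) u) (dp_T_10 j u) (Nat.ble (nat_lit 26) j)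
noncomputable def dp_T_12 (j u : ℕ) : Bool :=
  Bool.rec (motive := fun _ => Bool) (lS MG [T_ti, T_Ti, T_t, T_Ti, T_ti] M (Nat.sub (T_T u) (Nat.mod (T_T u) M)) (nat_lit 40) (Nat.mod (T_T u) M) u) (dp_T_11 j u) (Nat.ble (nat_lit 25) j)
noncomputable def dp_T_13 (j u : ℕ) : Bool :=
  Bool.rec (motive := fun _ => Bool) (dp_T_9 j u) (dp_T_12 j u) (Nat.ble (nat_lit 24) j)
noncomputable def dp_T_14 (j u : ℕ) : Bool :=
  Bool.rec (motive := fun _ => Bool) (dp_T_8 j u) (dp_T_13 j u) (Nat.ble (nat_lit 22) j)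
noncomputable def dp_T_15 (j u : ℕ) : Bool :=
  Bool.rec (motive := fun _ => Bool) (dp_T_7 j u) (dp_T_14 j u) (Nat.ble (nat_lit 20) j)
noncomputable def dp_T_16 (j u : ℕ) : Bool :=
  Bool.rec (motive := fun _ => Bool) (lS MG [T_Ti] M (Nat.sub (T_T u) (Nat.mod (T_T u) M)) (nat_lit 40) (Nat.mod (T_T u) M) u) (dp_T_15 j u) (Nat.ble (nat_lit 17) j)
noncomputable def dp_T_17 (j u : ℕ) : Bool :=
  Bool.rec (motive := fun _ => Bool) (lF [T_ti, T_Ti, T_t, T_Ti, T_ti] M (Nat.sub (T_T u) (Nat.mod (T_T u) M)) (Nat.mod (T_T u) M) u) (dp_T_16 j u) (Nat.ble (nat_lit 16) j)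
noncomputable def dp_T_18 (j u : ℕ) : Bool :=
  Bool.rec (motive := fun _ => Bool) (dp_T_5 j u) (dp_T_17 j u) (Nat.ble (nat_lit 15) j)
noncomputable def dp_T_19 (j u : ℕ) : Bool :=
  Bool.rec (motive := fun _ => Bool) (dp_T_4 j u) (dp_T_18 j u) (Nat.ble (nat_lit 13) j)
noncomputable def dp_T_20 (j u : ℕ) : Bool :=
  Bool.rec (motive := fun _ => Bool) (Bool.rec (motive := fun _ => Bool) (dp_T_0 j u) (dp_T_2 j u) (Nat.ble (nat_lit 7) j)) (dp_T_19 j u) (Nat.ble (nat_lit 10) j)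
noncomputable def disp_T (j u : ℕ) : Bool :=
  Bool.rec (motive := fun _ => Bool) (Bool.rec (motive := fun _ => Bool) (lF1 T_Ti M (Nat.sub (T_T u) (Nat.mod (T_T u) M)) (Nat.mod (T_T u) M) u) (lF3 T_zi T_Ti T_z M (Nat.sub (T_T u) (Nat.mod (T_T u) M)) (Nat.mod (T_T u) M) u) (Nat.ble (nat_lit 1) j)) (Bool.rec (motive := fun _ => Bool) (Bool.rec (motive := fun _ => Bool) (lF3 T_z T_Ti T_zi M (Nat.sub (T_T u) (Nat.mod (T_T u) M)) (Nat.mod (T_T u) M) u) (Bool.rec (motive := fun _ => Bool) (lDef P (nat_lit 11) u (Nat.mod (T_T u) M)) (lDef P (nat_lit 10) (Nat.mod (T_T u) M) u) (Nat.ble (nat_lit 4) j)) (Nat.ble (nat_lit 3) j)) (dp_T_20 j u) (Nat.ble (nat_lit 5) j)) (Nat.ble (nat_lit 2) j)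
noncomputable def chk_T (j u : ℕ) : Bool :=
  Bool.rec (motive := fun _ => Bool) (disp_T j u) (Nat.ble (Nat.succ (MG u)) A) (Nat.ble A (T_T u))
noncomputable def dp_Ti_0 (j u : ℕ) : Bool :=
  Bool.rec (motive := fun _ => Bool) (lDef P (nat_lit 10) u (Nat.mod (T_Ti u) M)) (lF [T_c, T_a, T_T, T_ai, T_ci] M (Nat.sub (T_Ti u) (Nat.mod (T_Ti u) M)) (Nat.mod (T_Ti u) M) u) (Nat.ble (nat_lit 5) j)
noncomputable def dp_Ti_1 (j u : ℕ) : Bool :=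
  Bool.rec (motive := fun _ => Bool) (lF [T_ci, T_a, T_T, T_ai, T_c] M (Nat.sub (T_Ti u) (Nat.mod (T_Ti u) M)) (Nat.mod (T_Ti u) M) u) (lF [T_t, T_Ti, T_ti, T_T, T_ti] M (Nat.sub (T_Ti u) (Nat.mod (T_Ti u) M)) (Nat.mod (T_Ti u) M) u) (Nat.ble (nat_lit 7) j)
noncomputable def dp_Ti_2 (j u : ℕ) : Bool :=
  Bool.rec (motive := fun _ => Bool) (lF [T_ai, T_c, T_T, T_ci, T_a] M (Nat.sub (T_Ti u) (Nat.mod (T_Ti u) M)) (Nat.mod (T_Ti u) M) u) (lF [T_b, T_c, T_T, T_ci, T_bi] M (Nat.sub (T_Ti u) (Nat.mod (T_Ti u) M)) (Nat.mod (T_Ti u) M) u) (Nat.ble (nat_lit 10) j)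
noncomputable def dp_Ti_3 (j u : ℕ) : Bool :=
  Bool.rec (motive := fun _ => Bool) (lF [T_t, T_T, T_ti, T_T, T_t] M (Nat.sub (T_Ti u) (Nat.mod (T_Ti u) M)) (Nat.mod (T_Ti u) M) u) (dp_Ti_2 j u) (Nat.ble (nat_lit 9) j)
noncomputable def dp_Ti_4 (j u : ℕ) : Bool :=
  Bool.rec (motive := fun _ => Bool) (lF [T_ai, T_ci, T_T, T_c, T_a] M (Nat.sub (T_Ti u) (Nat.mod (T_Ti u) M)) (Nat.mod (T_Ti u) M) u) (lF [T_ti, T_di, T_t, T_T, T_di] M (Nat.sub (T_Ti u) (Nat.mod (T_Ti u) M)) (Nat.mod (T_Ti u) M) u) (Nat.ble (nat_lit 13) j)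
noncomputable def dp_Ti_5 (j u : ℕ) : Bool :=
  Bool.rec (motive := fun _ => Bool) (lF [T_ti, T_d, T_t, T_T, T_d] M (Nat.sub (T_Ti u) (Nat.mod (T_Ti u) M)) (Nat.mod (T_Ti u) M) u) (dp_Ti_4 j u) (Nat.ble (nat_lit 12) j)
noncomputable def dp_Ti_6 (j u : ℕ) : Bool :=
  Bool.rec (motive := fun _ => Bool) (lF [T_ci, T_bi, T_T, T_b, T_c] M (Nat.sub (T_Ti u) (Nat.mod (T_Ti u) M)) (Nat.mod (T_Ti u) M) u) (lS MG [T_T] M (Nat.sub (T_Ti u) (Nat.mod (T_Ti u) M)) (nat_lit 40) (Nat.mod (T_Ti u) M) u) (Nat.ble (nat_lit 15) j)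
noncomputable def dp_Ti_7 (j u : ℕ) : Bool :=
  Bool.rec (motive := fun _ => Bool) (lS MG [T_c, T_a, T_T, T_ai, T_ci] M (Nat.sub (T_Ti u) (Nat.mod (T_Ti u) M)) (nat_lit 40) (Nat.mod (T_Ti u) M) u) (lS MG [T_ai, T_ci, T_T, T_c, T_a] M (Nat.sub (T_Ti u) (Nat.mod (T_Ti u) M)) (nat_lit 40) (Nat.mod (T_Ti u) M) u) (Nat.ble (nat_lit 18) j)
noncomputable def dp_Ti_8 (j u : ℕ) : Bool :=
  Bool.rec (motive := fun _ => Bool) (lS MG [T_ai, T_c, T_T, T_ci, T_a] M (Nat.sub (T_Ti u) (Nat.mod (T_Ti u) M)) (nat_lit 40) (Nat.mod (T_Ti u) M) u) (lS MG [T_b, T_c, T_T, T_ci, T_bi] M (Nat.sub (T_Ti u) (Nat.mod (T_Ti u) M)) (nat_lit 40) (Nat.mod (T_Ti u) M) u) (Nat.ble (nat_lit 20) j)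
noncomputable def dp_Ti_9 (j u : ℕ) : Bool :=
  Bool.rec (motive := fun _ => Bool) (dp_Ti_7 j u) (dp_Ti_8 j u) (Nat.ble (nat_lit 19) j)
noncomputable def dp_Ti_10 (j u : ℕ) : Bool :=
  Bool.rec (motive := fun _ => Bool) (lS MG [T_ti, T_d, T_t, T_T, T_d] M (Nat.sub (T_Ti u) (Nat.mod (T_Ti u) M)) (nat_lit 40) (Nat.mod (T_Ti u) M) u) (lS MG [T_ti, T_di, T_t, T_T, T_di] M (Nat.sub (T_Ti u) (Nat.mod (T_Ti u) M)) (nat_lit 40) (Nat.mod (T_Ti u) M) u) (Nat.ble (nat_lit 23) j)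
noncomputable def dp_Ti_11 (j u : ℕ) : Bool :=
  Bool.rec (motive := fun _ => Bool) (lS MG [T_ci, T_a, T_T, T_ai, T_c] M (Nat.sub (T_Ti u) (Nat.mod (T_Ti u) M)) (nat_lit 40) (Nat.mod (T_Ti u) M) u) (dp_Ti_10 j u) (Nat.ble (nat_lit 22) j)
noncomputable def dp_Ti_12 (j u : ℕ) : Bool :=
  Bool.rec (motive := fun _ => Bool) (lS MG [T_t, T_T, T_ti, T_T, T_t] M (Nat.sub (T_Ti u) (Nat.mod (T_Ti u) M)) (nat_lit 40) (Nat.mod (T_Ti u) M) u) (lS MG [T_ci, T_bi, T_T, T_b, T_c] M (Nat.sub (T_Ti u) (Nat.mod (T_Ti u) M)) (nat_lit 40) (Nat.mod (T_Ti u) M) u) (Nat.ble (nat_lit 25) j)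
noncomputable def dp_Ti_13 (j u : ℕ) : Bool :=
  Bool.rec (motive := fun _ => Bool) (lS MG [T_t, T_Ti, T_ti, T_T, T_ti] M (Nat.sub (T_Ti u) (Nat.mod (T_Ti u) M)) (nat_lit 40) (Nat.mod (T_Ti u) M) u) (lS MG [T_zi, T_T, T_z] M (Nat.sub (T_Ti u) (Nat.mod (T_Ti u) M)) (nat_lit 40) (Nat.mod (T_Ti u) M) u) (Nat.ble (nat_lit 28) j)
noncomputable def dp_Ti_14 (j u : ℕ) : Bool :=
  Bool.rec (motive := fun _ => Bool) (lS MG [T_ti, T_T, T_ti, T_Ti, T_t] M (Nat.sub (T_Ti u) (Nat.mod (T_Ti u) M)) (nat_lit 40) (Nat.mod (T_Ti u) M) u) (dp_Ti_13 j u) (Nat.ble (nat_lit 27) j)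
noncomputable def dp_Ti_15 (j u : ℕ) : Bool :=
  Bool.rec (motive := fun _ => Bool) (dp_Ti_12 j u) (dp_Ti_14 j u) (Nat.ble (nat_lit 26) j)
noncomputable def dp_Ti_16 (j u : ℕ) : Bool :=
  Bool.rec (motive := fun _ => Bool) (dp_Ti_11 j u) (dp_Ti_15 j u) (Nat.ble (nat_lit 24) j)
noncomputable def dp_Ti_17 (j u : ℕ) : Bool :=
  Bool.rec (motive := fun _ => Bool) (dp_Ti_9 j u) (dp_Ti_16 j u) (Nat.ble (nat_lit 21) j)
noncomputable def dp_Ti_18 (j u : ℕ) : Bool :=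
  Bool.rec (motive := fun _ => Bool) (lF [T_ti, T_T, T_ti, T_Ti, T_t] M (Nat.sub (T_Ti u) (Nat.mod (T_Ti u) M)) (Nat.mod (T_Ti u) M) u) (dp_Ti_17 j u) (Nat.ble (nat_lit 17) j)
noncomputable def dp_Ti_19 (j u : ℕ) : Bool :=
  Bool.rec (motive := fun _ => Bool) (dp_Ti_6 j u) (dp_Ti_18 j u) (Nat.ble (nat_lit 16) j)
noncomputable def dp_Ti_20 (j u : ℕ) : Bool :=
  Bool.rec (motive := fun _ => Bool) (dp_Ti_5 j u) (dp_Ti_19 j u) (Nat.ble (nat_lit 14) j)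
noncomputable def dp_Ti_21 (j u : ℕ) : Bool :=
  Bool.rec (motive := fun _ => Bool) (Bool.rec (motive := fun _ => Bool) (dp_Ti_1 j u) (dp_Ti_3 j u) (Nat.ble (nat_lit 8) j)) (dp_Ti_20 j u) (Nat.ble (nat_lit 11) j)
noncomputable def dp_Ti_22 (j u : ℕ) : Bool :=
  Bool.rec (motive := fun _ => Bool) (Bool.rec (motive := fun _ => Bool) (lDef P (nat_lit 11) (Nat.mod (T_Ti u) M) u) (Bool.rec (motive := fun _ => Bool) (lF3 T_z T_T T_zi M (Nat.sub (T_Ti u) (Nat.mod (T_Ti u) M)) (Nat.mod (T_Ti u) M) u) (dp_Ti_0 j u) (Nat.ble (nat_lit 4) j)) (Nat.ble (nat_lit 3) j)) (dp_Ti_21 j u) (Nat.ble (nat_lit 6) j)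
noncomputable def disp_Ti (j u : ℕ) : Bool :=
  Bool.rec (motive := fun _ => Bool) (Bool.rec (motive := fun _ => Bool) (lF1 T_T M (Nat.sub (T_Ti u) (Nat.mod (T_Ti u) M)) (Nat.mod (T_Ti u) M) u) (lF3 T_zi T_T T_z M (Nat.sub (T_Ti u) (Nat.mod (T_Ti u) M)) (Nat.mod (T_Ti u) M) u) (Nat.ble (nat_lit 1) j)) (dp_Ti_22 j u) (Nat.ble (nat_lit 2) j)
noncomputable def chk_Ti (j u : ℕ) : Bool :=
  Bool.rec (motive := fun _ => Bool) (disp_Ti j u) (Nat.ble (Nat.succ (MG u)) A) (Nat.ble A (T_Ti u))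
noncomputable def dp_z_0 (j u : ℕ) : Bool :=
  Bool.rec (motive := fun _ => Bool) (lF3 T_c T_zi T_ci M (Nat.sub (T_z u) (Nat.mod (T_z u) M)) (Nat.mod (T_z u) M) u) (lS MG [T_t, T_zi, T_ti] M (Nat.sub (T_z u) (Nat.mod (T_z u) M)) (nat_lit 40) (Nat.mod (T_z u) M) u) (Nat.ble (nat_lit 5) j)
noncomputable def dp_z_1 (j u : ℕ) : Bool :=
  Bool.rec (motive := fun _ => Bool) (lS MG [T_d, T_zi, T_di] M (Nat.sub (T_z u) (Nat.mod (T_z u) M)) (nat_lit 40) (Nat.mod (T_z u) M) u) (lF3 T_ci T_zi T_c M (Nat.sub (T_z u) (Nat.mod (T_z u) M)) (Nat.mod (T_z u) M) u) (Nat.ble (nat_lit 7) j)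
noncomputable def dp_z_2 (j u : ℕ) : Bool :=
  Bool.rec (motive := fun _ => Bool) (dp_z_0 j u) (dp_z_1 j u) (Nat.ble (nat_lit 6) j)
noncomputable def dp_z_3 (j u : ℕ) : Bool :=
  Bool.rec (motive := fun _ => Bool) (lS MG [T_c, T_zi, T_ci] M (Nat.sub (T_z u) (Nat.mod (T_z u) M)) (nat_lit 40) (Nat.mod (T_z u) M) u) (lF3 T_ai T_zi T_a M (Nat.sub (T_z u) (Nat.mod (T_z u) M)) (Nat.mod (T_z u) M) u) (Nat.ble (nat_lit 9) j)
noncomputable def dp_z_4 (j u : ℕ) : Bool :=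
  Bool.rec (motive := fun _ => Bool) (lS MG [T_zi] M (Nat.sub (T_z u) (Nat.mod (T_z u) M)) (nat_lit 40) (Nat.mod (T_z u) M) u) (lF3 T_bi T_zi T_b M (Nat.sub (T_z u) (Nat.mod (T_z u) M)) (Nat.mod (T_z u) M) u) (Nat.ble (nat_lit 11) j)
noncomputable def dp_z_5 (j u : ℕ) : Bool :=
  Bool.rec (motive := fun _ => Bool) (dp_z_3 j u) (dp_z_4 j u) (Nat.ble (nat_lit 10) j)
noncomputable def dp_z_6 (j u : ℕ) : Bool :=
  Bool.rec (motive := fun _ => Bool) (dp_z_2 j u) (dp_z_5 j u) (Nat.ble (nat_lit 8) j)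
noncomputable def dp_z_7 (j u : ℕ) : Bool :=
  Bool.rec (motive := fun _ => Bool) (lF3 T_a T_zi T_ai M (Nat.sub (T_z u) (Nat.mod (T_z u) M)) (Nat.mod (T_z u) M) u) (lF3 T_d T_zi T_di M (Nat.sub (T_z u) (Nat.mod (T_z u) M)) (Nat.mod (T_z u) M) u) (Nat.ble (nat_lit 13) j)
noncomputable def dp_z_8 (j u : ℕ) : Bool :=
  Bool.rec (motive := fun _ => Bool) (lS MG [T_ci, T_zi, T_c] M (Nat.sub (T_z u) (Nat.mod (T_z u) M)) (nat_lit 40) (Nat.mod (T_z u) M) u) (lS MG [T_b, T_zi, T_bi] M (Nat.sub (T_z u) (Nat.mod (T_z u) M)) (nat_lit 40) (Nat.mod (T_z u) M) u) (Nat.ble (nat_lit 16) j)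
noncomputable def dp_z_9 (j u : ℕ) : Bool :=
  Bool.rec (motive := fun _ => Bool) (lF3 T_b T_zi T_bi M (Nat.sub (T_z u) (Nat.mod (T_z u) M)) (Nat.mod (T_z u) M) u) (dp_z_8 j u) (Nat.ble (nat_lit 15) j)
noncomputable def dp_z_10 (j u : ℕ) : Bool :=
  Bool.rec (motive := fun _ => Bool) (dp_z_7 j u) (dp_z_9 j u) (Nat.ble (nat_lit 14) j)
noncomputable def dp_z_11 (j u : ℕ) : Bool :=
  Bool.rec (motive := fun _ => Bool) (lS MG [T_bi, T_zi, T_b] M (Nat.sub (T_z u) (Nat.mod (T_z u) M)) (nat_lit 40) (Nat.mod (T_z u) M) u) (lS MG [T_di, T_zi, T_d] M (Nat.sub (T_z u) (Nat.mod (T_z u) M)) (nat_lit 40) (Nat.mod (T_z u) M) u) (Nat.ble (nat_lit 18) j)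
noncomputable def dp_z_12 (j u : ℕ) : Bool :=
  Bool.rec (motive := fun _ => Bool) (lS MG [T_T, T_zi, T_Ti] M (Nat.sub (T_z u) (Nat.mod (T_z u) M)) (nat_lit 40) (Nat.mod (T_z u) M) u) (lF3 T_di T_zi T_d M (Nat.sub (T_z u) (Nat.mod (T_z u) M)) (Nat.mod (T_z u) M) u) (Nat.ble (nat_lit 20) j)
noncomputable def dp_z_13 (j u : ℕ) : Bool :=
  Bool.rec (motive := fun _ => Bool) (dp_z_11 j u) (dp_z_12 j u) (Nat.ble (nat_lit 19) j)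
noncomputable def dp_z_14 (j u : ℕ) : Bool :=
  Bool.rec (motive := fun _ => Bool) (lS MG [T_Ti, T_zi, T_T] M (Nat.sub (T_z u) (Nat.mod (T_z u) M)) (nat_lit 40) (Nat.mod (T_z u) M) u) (lS MG [T_ti, T_zi, T_t] M (Nat.sub (T_z u) (Nat.mod (T_z u) M)) (nat_lit 40) (Nat.mod (T_z u) M) u) (Nat.ble (nat_lit 23) j)
noncomputable def dp_z_15 (j u : ℕ) : Bool :=
  Bool.rec (motive := fun _ => Bool) (lF3 T_t T_zi T_ti M (Nat.sub (T_z u) (Nat.mod (T_z u) M)) (Nat.mod (T_z u) M) u) (dp_z_14 j u) (Nat.ble (nat_lit 22) j)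
noncomputable def dp_z_16 (j u : ℕ) : Bool :=
  Bool.rec (motive := fun _ => Bool) (lS MG [T_ai, T_zi, T_a] M (Nat.sub (T_z u) (Nat.mod (T_z u) M)) (nat_lit 40) (Nat.mod (T_z u) M) u) (lS MG [T_a, T_zi, T_ai] M (Nat.sub (T_z u) (Nat.mod (T_z u) M)) (nat_lit 40) (Nat.mod (T_z u) M) u) (Nat.ble (nat_lit 25) j)
noncomputable def dp_z_17 (j u : ℕ) : Bool :=
  Bool.rec (motive := fun _ => Bool) (lF3 T_Ti T_zi T_T M (Nat.sub (T_z u) (Nat.mod (T_z u) M)) (Nat.mod (T_z u) M) u) (lF3 T_T T_zi T_Ti M (Nat.sub (T_z u) (Nat.mod (T_z u) M)) (Nat.mod (T_z u) M) u) (Nat.ble (nat_lit 28) j)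
noncomputable def dp_z_18 (j u : ℕ) : Bool :=
  Bool.rec (motive := fun _ => Bool) (lF3 T_ti T_zi T_t M (Nat.sub (T_z u) (Nat.mod (T_z u) M)) (Nat.mod (T_z u) M) u) (dp_z_17 j u) (Nat.ble (nat_lit 27) j)
noncomputable def dp_z_19 (j u : ℕ) : Bool :=
  Bool.rec (motive := fun _ => Bool) (dp_z_16 j u) (dp_z_18 j u) (Nat.ble (nat_lit 26) j)
noncomputable def dp_z_20 (j u : ℕ) : Bool :=
  Bool.rec (motive := fun _ => Bool) (dp_z_15 j u) (dp_z_19 j u) (Nat.ble (nat_lit 24) j)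
noncomputable def dp_z_21 (j u : ℕ) : Bool :=
  Bool.rec (motive := fun _ => Bool) (dp_z_13 j u) (dp_z_20 j u) (Nat.ble (nat_lit 21) j)
noncomputable def dp_z_22 (j u : ℕ) : Bool :=
  Bool.rec (motive := fun _ => Bool) (dp_z_10 j u) (dp_z_21 j u) (Nat.ble (nat_lit 17) j)
noncomputable def dp_z_23 (j u : ℕ) : Bool :=
  Bool.rec (motive := fun _ => Bool) (dp_z_6 j u) (dp_z_22 j u) (Nat.ble (nat_lit 12) j)
noncomputable def dp_z_24 (j u : ℕ) : Bool :=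
  Bool.rec (motive := fun _ => Bool) (Bool.rec (motive := fun _ => Bool) (lF3 T_z T_z T_z M (Nat.sub (T_z u) (Nat.mod (T_z u) M)) (Nat.mod (T_z u) M) u) (lF1 T_zi M (Nat.sub (T_z u) (Nat.mod (T_z u) M)) (Nat.mod (T_z u) M) u) (Nat.ble (nat_lit 3) j)) (dp_z_23 j u) (Nat.ble (nat_lit 4) j)
noncomputable def disp_z (j u : ℕ) : Bool :=
  Bool.rec (motive := fun _ => Bool) (lDef P (nat_lit 12) (Nat.mod (T_z u) M) u) (Bool.rec (motive := fun _ => Bool) (lDef P (nat_lit 13) u (Nat.mod (T_z u) M)) (dp_z_24 j u) (Nat.ble (nat_lit 2) j)) (Nat.ble (nat_lit 1) j)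
noncomputable def chk_z (j u : ℕ) : Bool :=
  Bool.rec (motive := fun _ => Bool) (disp_z j u) (Nat.ble (Nat.succ (MG u)) A) (Nat.ble A (T_z u))
noncomputable def dp_zi_0 (j u : ℕ) : Bool :=
  Bool.rec (motive := fun _ => Bool) (lS MG [T_Ti, T_z, T_T] M (Nat.sub (T_zi u) (Nat.mod (T_zi u) M)) (nat_lit 40) (Nat.mod (T_zi u) M) u) (lS MG [T_z] M (Nat.sub (T_zi u) (Nat.mod (T_zi u) M)) (nat_lit 40) (Nat.mod (T_zi u) M) u) (Nat.ble (nat_lit 5) j)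
noncomputable def dp_zi_1 (j u : ℕ) : Bool :=
  Bool.rec (motive := fun _ => Bool) (lS MG [T_T, T_z, T_Ti] M (Nat.sub (T_zi u) (Nat.mod (T_zi u) M)) (nat_lit 40) (Nat.mod (T_zi u) M) u) (dp_zi_0 j u) (Nat.ble (nat_lit 4) j)
noncomputable def dp_zi_2 (j u : ℕ) : Bool :=
  Bool.rec (motive := fun _ => Bool) (lF3 T_ci T_z T_c M (Nat.sub (T_zi u) (Nat.mod (T_zi u) M)) (Nat.mod (T_zi u) M) u) (lS MG [T_ci, T_z, T_c] M (Nat.sub (T_zi u) (Nat.mod (T_zi u) M)) (nat_lit 40) (Nat.mod (T_zi u) M) u) (Nat.ble (nat_lit 7) j)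
noncomputable def dp_zi_3 (j u : ℕ) : Bool :=
  Bool.rec (motive := fun _ => Bool) (lS MG [T_t, T_z, T_ti] M (Nat.sub (T_zi u) (Nat.mod (T_zi u) M)) (nat_lit 40) (Nat.mod (T_zi u) M) u) (lF3 T_c T_z T_ci M (Nat.sub (T_zi u) (Nat.mod (T_zi u) M)) (Nat.mod (T_zi u) M) u) (Nat.ble (nat_lit 10) j)
noncomputable def dp_zi_4 (j u : ℕ) : Bool :=
  Bool.rec (motive := fun _ => Bool) (lF3 T_bi T_z T_b M (Nat.sub (T_zi u) (Nat.mod (T_zi u) M)) (Nat.mod (T_zi u) M) u) (dp_zi_3 j u) (Nat.ble (nat_lit 9) j)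
noncomputable def dp_zi_5 (j u : ℕ) : Bool :=
  Bool.rec (motive := fun _ => Bool) (dp_zi_2 j u) (dp_zi_4 j u) (Nat.ble (nat_lit 8) j)
noncomputable def dp_zi_6 (j u : ℕ) : Bool :=
  Bool.rec (motive := fun _ => Bool) (dp_zi_1 j u) (dp_zi_5 j u) (Nat.ble (nat_lit 6) j)
noncomputable def dp_zi_7 (j u : ℕ) : Bool :=
  Bool.rec (motive := fun _ => Bool) (lF3 T_a T_z T_ai M (Nat.sub (T_zi u) (Nat.mod (T_zi u) M)) (Nat.mod (T_zi u) M) u) (lS MG [T_d, T_z, T_di] M (Nat.sub (T_zi u) (Nat.mod (T_zi u) M)) (nat_lit 40) (Nat.mod (T_zi u) M) u) (Nat.ble (nat_lit 13) j)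
noncomputable def dp_zi_8 (j u : ℕ) : Bool :=
  Bool.rec (motive := fun _ => Bool) (lS MG [T_bi, T_z, T_b] M (Nat.sub (T_zi u) (Nat.mod (T_zi u) M)) (nat_lit 40) (Nat.mod (T_zi u) M) u) (dp_zi_7 j u) (Nat.ble (nat_lit 12) j)
noncomputable def dp_zi_9 (j u : ℕ) : Bool :=
  Bool.rec (motive := fun _ => Bool) (lS MG [T_ti, T_z, T_t] M (Nat.sub (T_zi u) (Nat.mod (T_zi u) M)) (nat_lit 40) (Nat.mod (T_zi u) M) u) (lF3 T_ai T_z T_a M (Nat.sub (T_zi u) (Nat.mod (T_zi u) M)) (Nat.mod (T_zi u) M) u) (Nat.ble (nat_lit 16) j)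
noncomputable def dp_zi_10 (j u : ℕ) : Bool :=
  Bool.rec (motive := fun _ => Bool) (lS MG [T_c, T_z, T_ci] M (Nat.sub (T_zi u) (Nat.mod (T_zi u) M)) (nat_lit 40) (Nat.mod (T_zi u) M) u) (dp_zi_9 j u) (Nat.ble (nat_lit 15) j)
noncomputable def dp_zi_11 (j u : ℕ) : Bool :=
  Bool.rec (motive := fun _ => Bool) (dp_zi_8 j u) (dp_zi_10 j u) (Nat.ble (nat_lit 14) j)
noncomputable def dp_zi_12 (j u : ℕ) : Bool :=
  Bool.rec (motive := fun _ => Bool) (lS MG [T_di, T_z, T_d] M (Nat.sub (T_zi u) (Nat.mod (T_zi u) M)) (nat_lit 40) (Nat.mod (T_zi u) M) u) (lF3 T_d T_z T_di M (Nat.sub (T_zi u) (Nat.mod (T_zi u) M)) (Nat.mod (T_zi u) M) u) (Nat.ble (nat_lit 18) j)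
noncomputable def dp_zi_13 (j u : ℕ) : Bool :=
  Bool.rec (motive := fun _ => Bool) (lF3 T_b T_z T_bi M (Nat.sub (T_zi u) (Nat.mod (T_zi u) M)) (Nat.mod (T_zi u) M) u) (lS MG [T_b, T_z, T_bi] M (Nat.sub (T_zi u) (Nat.mod (T_zi u) M)) (nat_lit 40) (Nat.mod (T_zi u) M) u) (Nat.ble (nat_lit 20) j)
noncomputable def dp_zi_14 (j u : ℕ) : Bool :=
  Bool.rec (motive := fun _ => Bool) (dp_zi_12 j u) (dp_zi_13 j u) (Nat.ble (nat_lit 19) j)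
noncomputable def dp_zi_15 (j u : ℕ) : Bool :=
  Bool.rec (motive := fun _ => Bool) (lF3 T_t T_z T_ti M (Nat.sub (T_zi u) (Nat.mod (T_zi u) M)) (Nat.mod (T_zi u) M) u) (lF3 T_Ti T_z T_T M (Nat.sub (T_zi u) (Nat.mod (T_zi u) M)) (Nat.mod (T_zi u) M) u) (Nat.ble (nat_lit 23) j)
noncomputable def dp_zi_16 (j u : ℕ) : Bool :=
  Bool.rec (motive := fun _ => Bool) (lF3 T_ti T_z T_t M (Nat.sub (T_zi u) (Nat.mod (T_zi u) M)) (Nat.mod (T_zi u) M) u) (dp_zi_15 j u) (Nat.ble (nat_lit 22) j)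
noncomputable def dp_zi_17 (j u : ℕ) : Bool :=
  Bool.rec (motive := fun _ => Bool) (lF3 T_di T_z T_d M (Nat.sub (T_zi u) (Nat.mod (T_zi u) M)) (Nat.mod (T_zi u) M) u) (lS MG [T_a, T_z, T_ai] M (Nat.sub (T_zi u) (Nat.mod (T_zi u) M)) (nat_lit 40) (Nat.mod (T_zi u) M) u) (Nat.ble (nat_lit 25) j)
noncomputable def dp_zi_18 (j u : ℕ) : Bool :=
  Bool.rec (motive := fun _ => Bool) (lS MG [T_ai, T_z, T_a] M (Nat.sub (T_zi u) (Nat.mod (T_zi u) M)) (nat_lit 40) (Nat.mod (T_zi u) M) u) (lF3 T_T T_z T_Ti M (Nat.sub (T_zi u) (Nat.mod (T_zi u) M)) (Nat.mod (T_zi u) M) u) (Nat.ble (nat_lit 27) j)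
noncomputable def dp_zi_19 (j u : ℕ) : Bool :=
  Bool.rec (motive := fun _ => Bool) (dp_zi_17 j u) (dp_zi_18 j u) (Nat.ble (nat_lit 26) j)
noncomputable def dp_zi_20 (j u : ℕ) : Bool :=
  Bool.rec (motive := fun _ => Bool) (dp_zi_16 j u) (dp_zi_19 j u) (Nat.ble (nat_lit 24) j)
noncomputable def dp_zi_21 (j u : ℕ) : Bool :=
  Bool.rec (motive := fun _ => Bool) (dp_zi_14 j u) (dp_zi_20 j u) (Nat.ble (nat_lit 21) j)
noncomputable def dp_zi_22 (j u : ℕ) : Bool :=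
  Bool.rec (motive := fun _ => Bool) (dp_zi_11 j u) (dp_zi_21 j u) (Nat.ble (nat_lit 17) j)
noncomputable def dp_zi_23 (j u : ℕ) : Bool :=
  Bool.rec (motive := fun _ => Bool) (dp_zi_6 j u) (dp_zi_22 j u) (Nat.ble (nat_lit 11) j)
noncomputable def dp_zi_24 (j u : ℕ) : Bool :=
  Bool.rec (motive := fun _ => Bool) (lF1 T_z M (Nat.sub (T_zi u) (Nat.mod (T_zi u) M)) (Nat.mod (T_zi u) M) u) (dp_zi_23 j u) (Nat.ble (nat_lit 3) j)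
noncomputable def disp_zi (j u : ℕ) : Bool :=
  Bool.rec (motive := fun _ => Bool) (lDef P (nat_lit 12) u (Nat.mod (T_zi u) M)) (Bool.rec (motive := fun _ => Bool) (lDef P (nat_lit 13) (Nat.mod (T_zi u) M) u) (dp_zi_24 j u) (Nat.ble (nat_lit 2) j)) (Nat.ble (nat_lit 1) j)
noncomputable def chk_zi (j u : ℕ) : Bool :=
  Bool.rec (motive := fun _ => Bool) (disp_zi j u) (Nat.ble (Nat.succ (MG u)) A) (Nat.ble A (T_zi u))
noncomputable def dM_0 (j z1 z2 u : ℕ) : Bool :=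
  Bool.rec (motive := fun _ => Bool) (Bool.rec (motive := fun _ => Bool) (mCo MG T_Ti M (Nat.sub (MG u) (Nat.mod (MG u) M)) (nat_lit 40) z1 z2 u (Nat.mod (MG u) M)) (mCo MG T_z M (Nat.sub (MG u) (Nat.mod (MG u) M)) (nat_lit 40) z1 z2 u (Nat.mod (MG u) M)) (Nat.ble (nat_lit 1) j)) (Bool.rec (motive := fun _ => Bool) (mCo MG T_T M (Nat.sub (MG u) (Nat.mod (MG u) M)) (nat_lit 40) z1 z2 u (Nat.mod (MG u) M)) (Bool.rec (motive := fun _ => Bool) (mCo MG T_a M (Nat.sub (MG u) (Nat.mod (MG u) M)) (nat_lit 40) z1 z2 u (Nat.mod (MG u) M)) (mCo MG T_ti M (Nat.sub (MG u) (Nat.mod (MG u) M)) (nat_lit 40) z1 z2 u (Nat.mod (MG u) M)) (Nat.ble (nat_lit 4) j)) (Nat.ble (nat_lit 3) j)) (Nat.ble (nat_lit 2) j)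
noncomputable def dM_1 (j z1 z2 u : ℕ) : Bool :=
  Bool.rec (motive := fun _ => Bool) (Bool.rec (motive := fun _ => Bool) (mCo MG T_ai M (Nat.sub (MG u) (Nat.mod (MG u) M)) (nat_lit 40) z1 z2 u (Nat.mod (MG u) M)) (mCo MG T_ci M (Nat.sub (MG u) (Nat.mod (MG u) M)) (nat_lit 40) z1 z2 u (Nat.mod (MG u) M)) (Nat.ble (nat_lit 6) j)) (Bool.rec (motive := fun _ => Bool) (mCo MG T_di M (Nat.sub (MG u) (Nat.mod (MG u) M)) (nat_lit 40) z1 z2 u (Nat.mod (MG u) M)) (mCo MG T_t M (Nat.sub (MG u) (Nat.mod (MG u) M)) (nat_lit 40) z1 z2 u (Nat.mod (MG u) M)) (Nat.ble (nat_lit 8) j)) (Nat.ble (nat_lit 7) j)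
noncomputable def dM_2 (j z1 z2 u : ℕ) : Bool :=
  Bool.rec (motive := fun _ => Bool) (mCo MG T_c M (Nat.sub (MG u) (Nat.mod (MG u) M)) (nat_lit 40) z1 z2 u (Nat.mod (MG u) M)) (Bool.rec (motive := fun _ => Bool) (mCo MG T_b M (Nat.sub (MG u) (Nat.mod (MG u) M)) (nat_lit 40) z1 z2 u (Nat.mod (MG u) M)) (mCo MG T_d M (Nat.sub (MG u) (Nat.mod (MG u) M)) (nat_lit 40) z1 z2 u (Nat.mod (MG u) M)) (Nat.ble (nat_lit 11) j)) (Nat.ble (nat_lit 10) j)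
noncomputable def dM_3 (j z1 z2 u : ℕ) : Bool :=
  Bool.rec (motive := fun _ => Bool) (mCo MG T_bi M (Nat.sub (MG u) (Nat.mod (MG u) M)) (nat_lit 40) z1 z2 u (Nat.mod (MG u) M)) (Bool.rec (motive := fun _ => Bool) (mCo MG T_zi M (Nat.sub (MG u) (Nat.mod (MG u) M)) (nat_lit 40) z1 z2 u (Nat.mod (MG u) M)) (mRel MG [T_ai, T_ci, T_ai, T_c] [T_ci, T_ai] M (Nat.sub (MG u) (Nat.mod (MG u) M)) (nat_lit 40) z1 u (Nat.mod (MG u) M)) (Nat.ble (nat_lit 14) j)) (Nat.ble (nat_lit 13) j)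
noncomputable def dM_4 (j z1 z2 u : ℕ) : Bool :=
  Bool.rec (motive := fun _ => Bool) (Bool.rec (motive := fun _ => Bool) (Bool.rec (motive := fun _ => Bool) (mRel MG [T_a] [T_ci, T_a, T_c, T_a, T_ci] M (Nat.sub (MG u) (Nat.mod (MG u) M)) (nat_lit 40) z1 u (Nat.mod (MG u) M)) (mRel MG [T_ti, T_b] [T_bi, T_ti, T_b, T_di] M (Nat.sub (MG u) (Nat.mod (MG u) M)) (nat_lit 40) z1 u (Nat.mod (MG u) M)) (Nat.ble (nat_lit 16) j)) (Bool.rec (motive := fun _ => Bool) (mRel MG [T_bi, T_t] [T_di, T_bi, T_t, T_bi] M (Nat.sub (MG u) (Nat.mod (MG u) M)) (nat_lit 40) z1 u (Nat.mod (MG u) M)) (mRel MG [T_a, T_bi, T_ai] [T_b, T_a, T_bi] M (Nat.sub (MG u) (Nat.mod (MG u) M)) (nat_lit 40) z1 u (Nat.mod (MG u) M)) (Nat.ble (nat_lit 18) j)) (Nat.ble (nat_lit 17) j)) (Bool.rec (motive := fun _ => Bool) (Bool.rec (motive := fun _ => Bool) (mRel MG [T_T, T_ci, T_a, T_Ti]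 [T_ci, T_a] M (Nat.sub (MG u) (Nat.mod (MG u) M)) (nat_lit 40) z1 u (Nat.mod (MG u) M)) (mRel MG [T_ti, T_di, T_ai, T_d, T_t] [T_a] M (Nat.sub (MG u) (Nat.mod (MG u) M)) (nat_lit 40) z1 u (Nat.mod (MG u) M)) (Nat.ble (nat_lit 20) j)) (Bool.rec (motive := fun _ => Bool) (mRel MG [T_ti, T_b, T_di] [T_b, T_ti, T_b] M (Nat.sub (MG u) (Nat.mod (MG u) M)) (nat_lit 40) z1 u (Nat.mod (MG u) M)) (Bool.rec (motive := fun _ => Bool) (mRel MG [T_a, T_zi, T_ai] [T_zi] M (Nat.sub (MG u) (Nat.mod (MG u) M)) (nat_lit 40) z1 u (Nat.mod (MG u) M)) (mRel MG [T_bi, T_zi, T_b] [T_zi] M (Nat.sub (MG u) (Nat.mod (MG u) M)) (nat_lit 40) z1 u (Nat.mod (MG u) M)) (Nat.ble (nat_lit 23) j)) (Nat.ble (nat_lit 22) j)) (Nat.ble (nat_lit 21) j)) (Nat.ble (nat_lit 19) j)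
noncomputable def dM_5 (j z1 z2 u : ℕ) : Bool :=
  Bool.rec (motive := fun _ => Bool) (Bool.rec (motive := fun _ => Bool) (Bool.rec (motive := fun _ => Bool) (mRel MG [T_t, T_c] [T_c, T_bi, T_t, T_b] M (Nat.sub (MG u) (Nat.mod (MG u) M)) (nat_lit 40) z1 u (Nat.mod (MG u) M)) (mRel MG [T_t, T_b] [T_b, T_ci, T_t, T_c] M (Nat.sub (MG u) (Nat.mod (MG u) M)) (nat_lit 40) z1 u (Nat.mod (MG u) M)) (Nat.ble (nat_lit 25) j)) (Bool.rec (motive := fun _ => Bool) (mRel MG [T_ti] [T_bi, T_t, T_di, T_ti, T_b] M (Nat.sub (MG u) (Nat.mod (MG u) M)) (nat_lit 40) z1 u (Nat.mod (MG u) M)) (Bool.rec (motive := fun _ => Bool) (mRel MG [T_ti, T_b, T_d, T_bi, T_t, T_b] [] M (Nat.sub (MG u) (Nat.mod (MG u) M)) (nat_lit 40) z1 u (Nat.mod (MG u) M)) (mRel MG [T_bi, T_T, T_b] [T_c, T_T, T_ci] M (Nat.sub (MG u) (Nat.mod (MG u) M)) (nat_lit 40) z1 u (Nat.mod (MG u) M))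 (Nat.ble (nat_lit 28) j)) (Nat.ble (nat_lit 27) j)) (Nat.ble (nat_lit 26) j)) (Bool.rec (motive := fun _ => Bool) (Bool.rec (motive := fun _ => Bool) (mRel MG [T_ai, T_z, T_a] [T_z] M (Nat.sub (MG u) (Nat.mod (MG u) M)) (nat_lit 40) z1 u (Nat.mod (MG u) M)) (mRel MG [T_d, T_z] [T_z, T_d] M (Nat.sub (MG u) (Nat.mod (MG u) M)) (nat_lit 40) z1 u (Nat.mod (MG u) M)) (Nat.ble (nat_lit 30) j)) (Bool.rec (motive := fun _ => Bool) (mRel MG [T_ai, T_d, T_ai] [T_d, T_ai, T_d] M (Nat.sub (MG u) (Nat.mod (MG u) M)) (nat_lit 40) z1 u (Nat.mod (MG u) M)) (Bool.rec (motive := fun _ => Bool) (mRel MG [T_a, T_Ti, T_ai, T_c] [T_c, T_Ti] M (Nat.sub (MG u) (Nat.mod (MG u) M)) (nat_lit 40) z1 u (Nat.mod (MG u) M)) (mRel MG [T_d, T_zi, T_di] [T_zi] M (Nat.sub (MG u) (Nat.mod (MG u) M)) (nat_lit 40) z1 u (Nat.mod (MG u) M)) (Nat.ble (nat_lit 33) j)) (Nat.ble (nat_lit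 32) j)) (Nat.ble (nat_lit 31) j)) (Nat.ble (nat_lit 29) j)
noncomputable def dM_6 (j z1 z2 u : ℕ) : Bool :=
  Bool.rec (motive := fun _ => Bool) (dM_4 j z1 z2 u) (dM_5 j z1 z2 u) (Nat.ble (nat_lit 24) j)
noncomputable def dM_7 (j z1 z2 u : ℕ) : Bool :=
  Bool.rec (motive := fun _ => Bool) (Bool.rec (motive := fun _ => Bool) (mRel MG [T_a, T_di, T_a] [T_di, T_a, T_di] M (Nat.sub (MG u) (Nat.mod (MG u) M)) (nat_lit 40) z1 u (Nat.mod (MG u) M)) (mRel MG [T_bi, T_t, T_di] [T_ti, T_bi, T_t] M (Nat.sub (MG u) (Nat.mod (MG u) M)) (nat_lit 40) z1 u (Nat.mod (MG u) M)) (Nat.ble (nat_lit 35) j)) (Bool.rec (motive := fun _ => Bool) (mRel MG [T_b, T_ai, T_b] [T_ai, T_b, T_ai] M (Nat.sub (MG u) (Nat.mod (MG u) M)) (nat_lit 40) z1 u (Nat.mod (MG u) M)) (Bool.rec (motive := fun _ => Bool) (mRel MG [T_ti, T_di, T_t, T_T, T_di] [T_T] M (Nat.sub (MG u) (Nat.mod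 (MG u) M)) (nat_lit 40) z1 u (Nat.mod (MG u) M)) (mRel MG [T_ci, T_ai, T_ci, T_a, T_c] [T_ai] M (Nat.sub (MG u) (Nat.mod (MG u) M)) (nat_lit 40) z1 u (Nat.mod (MG u) M)) (Nat.ble (nat_lit 38) j)) (Nat.ble (nat_lit 37) j)) (Nat.ble (nat_lit 36) j)
noncomputable def dM_8 (j z1 z2 u : ℕ) : Bool :=
  Bool.rec (motive := fun _ => Bool) (Bool.rec (motive := fun _ => Bool) (Bool.rec (motive := fun _ => Bool) (mRel MG [T_t, T_bi] [T_b, T_d, T_bi, T_t] M (Nat.sub (MG u) (Nat.mod (MG u) M)) (nat_lit 40) z1 u (Nat.mod (MG u) M)) (mRel MG [T_bi, T_ti, T_b, T_ci, T_t] [T_ci] M (Nat.sub (MG u) (Nat.mod (MG u) M)) (nat_lit 40) z1 u (Nat.mod (MG u) M)) (Nat.ble (nat_lit 40) j)) (Bool.rec (motive := fun _ => Bool) (mRel MG [T_t, T_T] [T_T, T_ti, T_Ti, T_t] M (Nat.sub (MG u) (Nat.mod (MG u) M)) (nat_lit 40) z1 u (Nat.mod (MG u) M)) (mRel MG [T_Ti, T_t, T_T,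 T_ti, T_T, T_t] [] M (Nat.sub (MG u) (Nat.mod (MG u) M)) (nat_lit 40) z1 u (Nat.mod (MG u) M)) (Nat.ble (nat_lit 42) j)) (Nat.ble (nat_lit 41) j)) (Bool.rec (motive := fun _ => Bool) (Bool.rec (motive := fun _ => Bool) (mRel MG [T_t, T_di, T_ti, T_b, T_t] [T_b] M (Nat.sub (MG u) (Nat.mod (MG u) M)) (nat_lit 40) z1 u (Nat.mod (MG u) M)) (mRel MG [T_t, T_bi, T_t, T_di] [T_bi, T_t] M (Nat.sub (MG u) (Nat.mod (MG u) M)) (nat_lit 40) z1 u (Nat.mod (MG u) M)) (Nat.ble (nat_lit 44) j)) (Bool.rec (motive := fun _ => Bool) (mRel MG [T_ci, T_bi, T_Ti, T_b] [T_Ti, T_ci] M (Nat.sub (MG u) (Nat.mod (MG u) M)) (nat_lit 40) z1 u (Nat.mod (MG u) M)) (Bool.rec (motive := fun _ => Bool) (mRel MG [T_ci, T_a, T_Ti, T_ai] [T_Ti, T_ci] M (Nat.sub (MG u) (Nat.mod (MG u) M)) (nat_lit 40) z1 u (Nat.mod (MG u) M)) (mRel MG [T_d, T_a] [T_a, T_di, T_ai, T_d] M (Nat.sub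 (MG u) (Nat.mod (MG u) M)) (nat_lit 40) z1 u (Nat.mod (MG u) M)) (Nat.ble (nat_lit 47) j)) (Nat.ble (nat_lit 46) j)) (Nat.ble (nat_lit 45) j)) (Nat.ble (nat_lit 43) j)
noncomputable def dM_9 (j z1 z2 u : ℕ) : Bool :=
  Bool.rec (motive := fun _ => Bool) (dM_7 j z1 z2 u) (dM_8 j z1 z2 u) (Nat.ble (nat_lit 39) j)
noncomputable def dM_10 (j z1 z2 u : ℕ) : Bool :=
  Bool.rec (motive := fun _ => Bool) (Bool.rec (motive := fun _ => Bool) (Bool.rec (motive := fun _ => Bool) (mRel MG [T_bi, T_t, T_b, T_ti] [T_di, T_bi] M (Nat.sub (MG u) (Nat.mod (MG u) M)) (nat_lit 40) z1 u (Nat.mod (MG u) M)) (mRel MG [T_d, T_ci] [T_ci, T_di, T_c, T_d] M (Nat.sub (MG u) (Nat.mod (MG u) M)) (nat_lit 40) z1 u (Nat.mod (MG u) M)) (Nat.ble (nat_lit 49) j)) (Bool.rec (motive := fun _ => Bool) (mRel MG [T_t] [T_b, T_ti, T_bi, T_t, T_d] M (Nat.sub (MG u) (Nat.mod (MG u)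 M)) (nat_lit 40) z1 u (Nat.mod (MG u) M)) (mRel MG [T_ai, T_ci] [T_c, T_ai, T_ci, T_ai] M (Nat.sub (MG u) (Nat.mod (MG u) M)) (nat_lit 40) z1 u (Nat.mod (MG u) M)) (Nat.ble (nat_lit 51) j)) (Nat.ble (nat_lit 50) j)) (Bool.rec (motive := fun _ => Bool) (Bool.rec (motive := fun _ => Bool) (mRel MG [T_ai, T_d, T_ai, T_di, T_a] [T_d] M (Nat.sub (MG u) (Nat.mod (MG u) M)) (nat_lit 40) z1 u (Nat.mod (MG u) M)) (mRel MG [T_ai, T_di] [T_di, T_a, T_d, T_ai] M (Nat.sub (MG u) (Nat.mod (MG u) M)) (nat_lit 40) z1 u (Nat.mod (MG u) M)) (Nat.ble (nat_lit 53) j)) (Bool.rec (motive := fun _ => Bool) (mRel MG [T_ai, T_d, T_a, T_di] [T_di, T_ai] M (Nat.sub (MG u) (Nat.mod (MG u) M)) (nat_lit 40) z1 u (Nat.mod (MG u) M)) (Bool.rec (motive := fun _ => Bool) (mRel MG [T_ti, T_b, T_ci, T_t, T_c, T_bi] [] M (Nat.sub (MG u) (Nat.mod (MG u) M)) (nat_lit 40) z1 u (Nat.mod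 (MG u) M)) (mRel MG [T_ai, T_bi, T_a, T_bi] [T_bi, T_a] M (Nat.sub (MG u) (Nat.mod (MG u) M)) (nat_lit 40) z1 u (Nat.mod (MG u) M)) (Nat.ble (nat_lit 56) j)) (Nat.ble (nat_lit 55) j)) (Nat.ble (nat_lit 54) j)) (Nat.ble (nat_lit 52) j)
noncomputable def dM_11 (j z1 z2 u : ℕ) : Bool :=
  Bool.rec (motive := fun _ => Bool) (Bool.rec (motive := fun _ => Bool) (Bool.rec (motive := fun _ => Bool) (mRel MG [T_d, T_c, T_d, T_ci, T_di] [T_c] M (Nat.sub (MG u) (Nat.mod (MG u) M)) (nat_lit 40) z1 u (Nat.mod (MG u) M)) (mRel MG [T_ai, T_b, T_ai, T_bi, T_a, T_bi] [] M (Nat.sub (MG u) (Nat.mod (MG u) M)) (nat_lit 40) z1 u (Nat.mod (MG u) M)) (Nat.ble (nat_lit 58) j)) (Bool.rec (motive := fun _ => Bool) (mRel MG [T_ai, T_b, T_a, T_bi] [T_bi, T_ai] M (Nat.sub (MG u) (Nat.mod (MG u) M)) (nat_lit 40) z1 u (Nat.mod (MG u) M)) (Bool.rec (motive := fun _ => Bool)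 (mRel MG [T_ti, T_b, T_t] [T_d, T_ti, T_b] M (Nat.sub (MG u) (Nat.mod (MG u) M)) (nat_lit 40) z1 u (Nat.mod (MG u) M)) (mRel MG [T_ti, T_b, T_di, T_bi, T_t] [T_b] M (Nat.sub (MG u) (Nat.mod (MG u) M)) (nat_lit 40) z1 u (Nat.mod (MG u) M)) (Nat.ble (nat_lit 61) j)) (Nat.ble (nat_lit 60) j)) (Nat.ble (nat_lit 59) j)) (Bool.rec (motive := fun _ => Bool) (Bool.rec (motive := fun _ => Bool) (mRel MG [T_t, T_b, T_ti, T_b] [T_b, T_di] M (Nat.sub (MG u) (Nat.mod (MG u) M)) (nat_lit 40) z1 u (Nat.mod (MG u) M)) (mRel MG [T_c, T_d, T_c, T_di, T_ci, T_di] [] M (Nat.sub (MG u) (Nat.mod (MG u) M)) (nat_lit 40) z1 u (Nat.mod (MG u) M)) (Nat.ble (nat_lit 63) j)) (Bool.rec (motive := fun _ => Bool) (mRel MG [T_ci, T_ai, T_c, T_a] [T_a, T_ci] M (Nat.sub (MG u) (Nat.mod (MG u) M)) (nat_lit 40) z1 u (Nat.mod (MG u) M)) (Bool.rec (motive := fun _ => Bool) (mRel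 MG [T_c] [T_a, T_Ti, T_ai, T_c, T_T] M (Nat.sub (MG u) (Nat.mod (MG u) M)) (nat_lit 40) z1 u (Nat.mod (MG u) M)) (mRel MG [T_a, T_c, T_ai] [T_ci, T_a, T_c] M (Nat.sub (MG u) (Nat.mod (MG u) M)) (nat_lit 40) z1 u (Nat.mod (MG u) M)) (Nat.ble (nat_lit 66) j)) (Nat.ble (nat_lit 65) j)) (Nat.ble (nat_lit 64) j)) (Nat.ble (nat_lit 62) j)
noncomputable def dM_12 (j z1 z2 u : ℕ) : Bool :=
  Bool.rec (motive := fun _ => Bool) (dM_10 j z1 z2 u) (dM_11 j z1 z2 u) (Nat.ble (nat_lit 57) j)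
noncomputable def dM_13 (j z1 z2 u : ℕ) : Bool :=
  Bool.rec (motive := fun _ => Bool) (dM_9 j z1 z2 u) (dM_12 j z1 z2 u) (Nat.ble (nat_lit 48) j)
noncomputable def dM_14 (j z1 z2 u : ℕ) : Bool :=
  Bool.rec (motive := fun _ => Bool) (dM_6 j z1 z2 u) (dM_13 j z1 z2 u) (Nat.ble (nat_lit 34) j)
noncomputable def dM_15 (j z1 z2 u : ℕ) : Bool :=
  Bool.rec (motive := fun _ => Bool) (Bool.rec (motive := fun _ => Bool) (Bool.rec (motive := fun _ => Bool) (mRel MG [T_T, T_ai, T_c, T_Ti, T_ci] [T_ai] M (Nat.sub (MG u) (Nat.mod (MG u) M)) (nat_lit 40) z1 u (Nat.mod (MG u) M)) (mRel MG [T_ci, T_di, T_c, T_d, T_c] [T_d] M (Nat.sub (MG u) (Nat.mod (MG u) M)) (nat_lit 40) z1 u (Nat.mod (MG u) M)) (Nat.ble (nat_lit 68) j)) (Bool.rec (motive := fun _ => Bool) (mRel MG [T_b, T_ci, T_ti, T_c, T_bi] [T_ti] M (Nat.sub (MG u) (Nat.mod (MG u) M)) (nat_lit 40) z1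 u (Nat.mod (MG u) M)) (mRel MG [T_a, T_c, T_a, T_ci] [T_c, T_a] M (Nat.sub (MG u) (Nat.mod (MG u) M)) (nat_lit 40) z1 u (Nat.mod (MG u) M)) (Nat.ble (nat_lit 70) j)) (Nat.ble (nat_lit 69) j)) (Bool.rec (motive := fun _ => Bool) (Bool.rec (motive := fun _ => Bool) (mRel MG [T_ci] [T_a, T_ci, T_ai, T_ci, T_a] M (Nat.sub (MG u) (Nat.mod (MG u) M)) (nat_lit 40) z1 u (Nat.mod (MG u) M)) (mRel MG [T_bi, T_T] [T_c, T_T, T_ci, T_bi] M (Nat.sub (MG u) (Nat.mod (MG u) M)) (nat_lit 40) z1 u (Nat.mod (MG u) M)) (Nat.ble (nat_lit 72) j)) (Bool.rec (motive := fun _ => Bool) (mRel MG [T_c, T_d, T_c, T_di, T_ci] [T_d] M (Nat.sub (MG u) (Nat.mod (MG u) M)) (nat_lit 40) z1 u (Nat.mod (MG u) M)) (Bool.rec (motive := fun _ => Bool) (mRel MG [T_ti, T_b, T_ci, T_t, T_c] [T_b] M (Nat.sub (MG u) (Nat.mod (MG u) M)) (nat_lit 40) z1 u (Nat.mod (MG u) M)) (mRel MG [T_a,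 T_z, T_ai] [T_z] M (Nat.sub (MG u) (Nat.mod (MG u) M)) (nat_lit 40) z1 u (Nat.mod (MG u) M)) (Nat.ble (nat_lit 75) j)) (Nat.ble (nat_lit 74) j)) (Nat.ble (nat_lit 73) j)) (Nat.ble (nat_lit 71) j)
noncomputable def dM_16 (j z1 z2 u : ℕ) : Bool :=
  Bool.rec (motive := fun _ => Bool) (Bool.rec (motive := fun _ => Bool) (Bool.rec (motive := fun _ => Bool) (mRel MG [T_a, T_c, T_ai, T_ci] [T_ci, T_a] M (Nat.sub (MG u) (Nat.mod (MG u) M)) (nat_lit 40) z1 u (Nat.mod (MG u) M)) (mRel MG [T_d, T_ai] [T_ai, T_d, T_ai, T_di] M (Nat.sub (MG u) (Nat.mod (MG u) M)) (nat_lit 40) z1 u (Nat.mod (MG u) M)) (Nat.ble (nat_lit 77) j)) (Bool.rec (motive := fun _ => Bool) (mRel MG [T_di, T_zi] [T_zi, T_di] M (Nat.sub (MG u) (Nat.mod (MG u) M)) (nat_lit 40) z1 u (Nat.mod (MG u) M)) (mRel MG [T_ai, T_di, T_a] [T_di, T_a, T_d] M (Nat.sub (MG u) (Nat.mod (MG u) M)) (nat_lit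 40) z1 u (Nat.mod (MG u) M)) (Nat.ble (nat_lit 79) j)) (Nat.ble (nat_lit 78) j)) (Bool.rec (motive := fun _ => Bool) (Bool.rec (motive := fun _ => Bool) (mRel MG [T_di] [T_ti, T_b, T_ti, T_bi, T_t] M (Nat.sub (MG u) (Nat.mod (MG u) M)) (nat_lit 40) z1 u (Nat.mod (MG u) M)) (mRel MG [T_b, T_zi, T_bi] [T_zi] M (Nat.sub (MG u) (Nat.mod (MG u) M)) (nat_lit 40) z1 u (Nat.mod (MG u) M)) (Nat.ble (nat_lit 81) j)) (Bool.rec (motive := fun _ => Bool) (mRel MG [T_ai, T_d, T_t] [T_d, T_t, T_a] M (Nat.sub (MG u) (Nat.mod (MG u) M)) (nat_lit 40) z1 u (Nat.mod (MG u) M)) (Bool.rec (motive := fun _ => Bool) (mRel MG [T_d, T_c, T_di, T_ci, T_di, T_c] [] M (Nat.sub (MG u) (Nat.mod (MG u) M)) (nat_lit 40) z1 u (Nat.mod (MG u) M)) (mRel MG [T_c, T_a, T_ci] [T_ai, T_c, T_a] M (Nat.sub (MG u) (Nat.mod (MG u) M)) (nat_lit 40) z1 u (Nat.mod (MG u) M)) (Nat.ble (nat_lit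 84) j)) (Nat.ble (nat_lit 83) j)) (Nat.ble (nat_lit 82) j)) (Nat.ble (nat_lit 80) j)
noncomputable def dM_17 (j z1 z2 u : ℕ) : Bool :=
  Bool.rec (motive := fun _ => Bool) (dM_15 j z1 z2 u) (dM_16 j z1 z2 u) (Nat.ble (nat_lit 76) j)
noncomputable def dM_18 (j z1 z2 u : ℕ) : Bool :=
  Bool.rec (motive := fun _ => Bool) (Bool.rec (motive := fun _ => Bool) (Bool.rec (motive := fun _ => Bool) (mRel MG [T_ai, T_d, T_ai, T_di] [T_d, T_ai] M (Nat.sub (MG u) (Nat.mod (MG u) M)) (nat_lit 40) z1 u (Nat.mod (MG u) M)) (mRel MG [T_T, T_d, T_Ti, T_ti] [T_ti, T_di] M (Nat.sub (MG u) (Nat.mod (MG u) M)) (nat_lit 40) z1 u (Nat.mod (MG u) M)) (Nat.ble (nat_lit 86) j)) (Bool.rec (motive := fun _ => Bool) (mRel MG [T_d] [T_Ti, T_ti, T_di, T_t, T_T] M (Nat.sub (MG u) (Nat.mod (MG u) M)) (nat_lit 40) z1 u (Nat.mod (MG u) M)) (mRel MG [T_ai, T_c, T_Ti] [T_Ti, T_ai,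 T_c] M (Nat.sub (MG u) (Nat.mod (MG u) M)) (nat_lit 40) z1 u (Nat.mod (MG u) M)) (Nat.ble (nat_lit 88) j)) (Nat.ble (nat_lit 87) j)) (Bool.rec (motive := fun _ => Bool) (Bool.rec (motive := fun _ => Bool) (mRel MG [T_ai, T_c] [T_T, T_ai, T_c, T_Ti] M (Nat.sub (MG u) (Nat.mod (MG u) M)) (nat_lit 40) z1 u (Nat.mod (MG u) M)) (mRel MG [T_d, T_z, T_di] [T_z] M (Nat.sub (MG u) (Nat.mod (MG u) M)) (nat_lit 40) z1 u (Nat.mod (MG u) M)) (Nat.ble (nat_lit 90) j)) (Bool.rec (motive := fun _ => Bool) (mRel MG [T_c, T_bi, T_t, T_b, T_ci, T_ti] [] M (Nat.sub (MG u) (Nat.mod (MG u) M)) (nat_lit 40) z1 u (Nat.mod (MG u) M)) (Bool.rec (motive := fun _ => Bool) (mRel MG [T_d, T_c, T_di, T_ci, T_di] [T_ci] M (Nat.sub (MG u) (Nat.mod (MG u) M)) (nat_lit 40) z1 u (Nat.mod (MG u) M)) (mRel MG [T_ci] [T_a, T_Ti, T_ai, T_ci, T_T] M (Nat.sub (MG u) (Nat.mod (MG u)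 M)) (nat_lit 40) z1 u (Nat.mod (MG u) M)) (Nat.ble (nat_lit 93) j)) (Nat.ble (nat_lit 92) j)) (Nat.ble (nat_lit 91) j)) (Nat.ble (nat_lit 89) j)
noncomputable def dM_19 (j z1 z2 u : ℕ) : Bool :=
  Bool.rec (motive := fun _ => Bool) (Bool.rec (motive := fun _ => Bool) (Bool.rec (motive := fun _ => Bool) (mRel MG [T_c, T_a, T_T, T_ai, T_ci, T_Ti] [] M (Nat.sub (MG u) (Nat.mod (MG u) M)) (nat_lit 40) z1 u (Nat.mod (MG u) M)) (mRel MG [T_ai, T_z] [T_z, T_ai] M (Nat.sub (MG u) (Nat.mod (MG u) M)) (nat_lit 40) z1 u (Nat.mod (MG u) M)) (Nat.ble (nat_lit 95) j)) (Bool.rec (motive := fun _ => Bool) (mRel MG [T_ci, T_a] [T_T, T_ci, T_a, T_Ti] M (Nat.sub (MG u) (Nat.mod (MG u) M)) (nat_lit 40) z1 u (Nat.mod (MG u) M)) (Bool.rec (motive := fun _ => Bool) (mRel MG [T_c, T_a, T_ci, T_ai, T_ci] [T_ai] M (Nat.sub (MG u) (Nat.mod (MG u) M)) (nat_lit 40) z1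 u (Nat.mod (MG u) M)) (mRel MG [T_b, T_ci] [T_t, T_b, T_ci, T_ti] M (Nat.sub (MG u) (Nat.mod (MG u) M)) (nat_lit 40) z1 u (Nat.mod (MG u) M)) (Nat.ble (nat_lit 98) j)) (Nat.ble (nat_lit 97) j)) (Nat.ble (nat_lit 96) j)) (Bool.rec (motive := fun _ => Bool) (Bool.rec (motive := fun _ => Bool) (mRel MG [T_ti, T_c, T_bi] [T_c, T_bi, T_ti] M (Nat.sub (MG u) (Nat.mod (MG u) M)) (nat_lit 40) z1 u (Nat.mod (MG u) M)) (mRel MG [T_ti, T_z, T_t] [T_z] M (Nat.sub (MG u) (Nat.mod (MG u) M)) (nat_lit 40) z1 u (Nat.mod (MG u) M)) (Nat.ble (nat_lit 100) j)) (Bool.rec (motive := fun _ => Bool) (mRel MG [T_bi, T_z, T_b] [T_z] M (Nat.sub (MG u) (Nat.mod (MG u) M)) (nat_lit 40) z1 u (Nat.mod (MG u) M)) (Bool.rec (motive := fun _ => Bool) (mRel MG [T_c, T_Ti] [T_a, T_Ti, T_ai, T_c] M (Nat.sub (MG u) (Nat.mod (MG u) M)) (nat_lit 40) z1 u (Nat.mod (MG u) M)) (mRel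 MG [T_ti, T_d, T_t, T_T, T_d] [T_T] M (Nat.sub (MG u) (Nat.mod (MG u) M)) (nat_lit 40) z1 u (Nat.mod (MG u) M)) (Nat.ble (nat_lit 103) j)) (Nat.ble (nat_lit 102) j)) (Nat.ble (nat_lit 101) j)) (Nat.ble (nat_lit 99) j)
noncomputable def dM_20 (j z1 z2 u : ℕ) : Bool :=
  Bool.rec (motive := fun _ => Bool) (dM_18 j z1 z2 u) (dM_19 j z1 z2 u) (Nat.ble (nat_lit 94) j)
noncomputable def dM_21 (j z1 z2 u : ℕ) : Bool :=
  Bool.rec (motive := fun _ => Bool) (dM_17 j z1 z2 u) (dM_20 j z1 z2 u) (Nat.ble (nat_lit 85) j)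
noncomputable def dM_22 (j z1 z2 u : ℕ) : Bool :=
  Bool.rec (motive := fun _ => Bool) (Bool.rec (motive := fun _ => Bool) (Bool.rec (motive := fun _ => Bool) (mRel MG [T_t, T_b, T_ci, T_ti, T_c] [T_b] M (Nat.sub (MG u) (Nat.mod (MG u) M)) (nat_lit 40) z1 u (Nat.mod (MG u) M)) (mRel MG [T_a, T_ci, T_ai, T_ci] [T_ci, T_ai] M (Nat.sub (MG u) (Nat.mod (MG u) M)) (nat_lit 40) z1 u (Nat.mod (MG u) M)) (Nat.ble (nat_lit 105) j)) (Bool.rec (motive := fun _ => Bool) (mRel MG [T_t, T_Ti, T_t] [T_Ti, T_t, T_Ti] M (Nat.sub (MG u) (Nat.mod (MG u) M)) (nat_lit 40) z1 u (Nat.mod (MG u) M)) (mRel MG [T_ci, T_a] [T_Ti, T_ci, T_a, T_T] M (Nat.sub (MG u) (Nat.mod (MG u) M)) (nat_lit 40) z1 u (Nat.mod (MG u) M)) (Nat.ble (nat_lit 107) j)) (Nat.ble (nat_lit 106) j)) (Bool.rec (motive := fun _ => Bool) (Bool.rec (motive := fun _ => Bool) (mRel MG [T_bi, T_ti, T_b,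 T_di] [T_ti, T_b] M (Nat.sub (MG u) (Nat.mod (MG u) M)) (nat_lit 40) z1 u (Nat.mod (MG u) M)) (mRel MG [T_a, T_z] [T_z, T_a] M (Nat.sub (MG u) (Nat.mod (MG u) M)) (nat_lit 40) z1 u (Nat.mod (MG u) M)) (Nat.ble (nat_lit 109) j)) (Bool.rec (motive := fun _ => Bool) (mRel MG [T_c, T_T, T_ci, T_bi] [T_bi, T_T] M (Nat.sub (MG u) (Nat.mod (MG u) M)) (nat_lit 40) z1 u (Nat.mod (MG u) M)) (Bool.rec (motive := fun _ => Bool) (mRel MG [T_t, T_ai, T_c, T_d, T_b, T_T, T_ti, T_b, T_a, T_b, T_c, T_t, T_ai, T_c, T_d, T_b, T_T, T_ti, T_b, T_a, T_b, T_c, T_t, T_ai, T_c, T_d, T_b, T_zi] [T_ci, T_bi, T_ai, T_bi, T_t, T_Ti, T_bi, T_di, T_ci, T_a, T_ti, T_ci, T_bi, T_ai, T_bi, T_t, T_Ti] M (Nat.sub (MG u) (Nat.mod (MG u) M)) (nat_lit 40) z1 u (Nat.mod (MG u) M)) (mRel MG [T_a, T_T, T_ai] [T_c, T_T, T_ci] M (Nat.sub (MG u) (Nat.mod (MG u) M)) (nat_lit 40) z1 u (Nat.mod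 (MG u) M)) (Nat.ble (nat_lit 112) j)) (Nat.ble (nat_lit 111) j)) (Nat.ble (nat_lit 110) j)) (Nat.ble (nat_lit 108) j)
noncomputable def dM_23 (j z1 z2 u : ℕ) : Bool :=
  Bool.rec (motive := fun _ => Bool) (Bool.rec (motive := fun _ => Bool) (Bool.rec (motive := fun _ => Bool) (mRel MG [T_a, T_di] [T_di, T_a, T_di, T_ai] M (Nat.sub (MG u) (Nat.mod (MG u) M)) (nat_lit 40) z1 u (Nat.mod (MG u) M)) (mRel MG [T_d, T_ai, T_d] [T_ai, T_d, T_ai] M (Nat.sub (MG u) (Nat.mod (MG u) M)) (nat_lit 40) z1 u (Nat.mod (MG u) M)) (Nat.ble (nat_lit 114) j)) (Bool.rec (motive := fun _ => Bool) (mRel MG [T_ci, T_Ti, T_c, T_a] [T_a, T_Ti] M (Nat.sub (MG u) (Nat.mod (MG u) M)) (nat_lit 40) z1 u (Nat.mod (MG u) M)) (Bool.rec (motive := fun _ => Bool) (mRel MG [T_bi, T_t, T_bi] [T_d, T_bi, T_t] M (Nat.sub (MG u) (Nat.mod (MG u) M)) (nat_lit 40) z1 u (Nat.mod (MG u)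 M)) (mRel MG [T_di, T_bi, T_t] [T_bi, T_t, T_b] M (Nat.sub (MG u) (Nat.mod (MG u) M)) (nat_lit 40) z1 u (Nat.mod (MG u) M)) (Nat.ble (nat_lit 117) j)) (Nat.ble (nat_lit 116) j)) (Nat.ble (nat_lit 115) j)) (Bool.rec (motive := fun _ => Bool) (Bool.rec (motive := fun _ => Bool) (mRel MG [T_a, T_bi, T_a] [T_bi, T_a, T_bi] M (Nat.sub (MG u) (Nat.mod (MG u) M)) (nat_lit 40) z1 u (Nat.mod (MG u) M)) (mRel MG [T_t, T_b, T_ti, T_b, T_d] [T_b] M (Nat.sub (MG u) (Nat.mod (MG u) M)) (nat_lit 40) z1 u (Nat.mod (MG u) M)) (Nat.ble (nat_lit 119) j)) (Bool.rec (motive := fun _ => Bool) (mRel MG [T_di, T_ai, T_d, T_ai] [T_ai, T_d] M (Nat.sub (MG u) (Nat.mod (MG u) M)) (nat_lit 40) z1 u (Nat.mod (MG u) M)) (Bool.rec (motive := fun _ => Bool) (mRel MG [T_Ti, T_ai, T_c, T_T] [T_ai, T_c] M (Nat.sub (MG u) (Nat.mod (MG u) M)) (nat_lit 40) z1 u (Nat.mod (MG u) M))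 (mRel MG [T_a, T_ti, T_di, T_a] [T_ti, T_di] M (Nat.sub (MG u) (Nat.mod (MG u) M)) (nat_lit 40) z1 u (Nat.mod (MG u) M)) (Nat.ble (nat_lit 122) j)) (Nat.ble (nat_lit 121) j)) (Nat.ble (nat_lit 120) j)) (Nat.ble (nat_lit 118) j)
noncomputable def dM_24 (j z1 z2 u : ℕ) : Bool :=
  Bool.rec (motive := fun _ => Bool) (dM_22 j z1 z2 u) (dM_23 j z1 z2 u) (Nat.ble (nat_lit 113) j)
noncomputable def dM_25 (j z1 z2 u : ℕ) : Bool :=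
  Bool.rec (motive := fun _ => Bool) (Bool.rec (motive := fun _ => Bool) (Bool.rec (motive := fun _ => Bool) (mRel MG [T_t, T_b, T_ci, T_ti] [T_b, T_ci] M (Nat.sub (MG u) (Nat.mod (MG u) M)) (nat_lit 40) z1 u (Nat.mod (MG u) M)) (mRel MG [T_ai, T_d, T_a] [T_di, T_ai, T_d] M (Nat.sub (MG u) (Nat.mod (MG u) M)) (nat_lit 40) z1 u (Nat.mod (MG u) M)) (Nat.ble (nat_lit 124) j)) (Bool.rec (motive := fun _ => Bool) (mRel MG [T_ci, T_ti, T_c] [T_bi, T_ti, T_b] M (Nat.sub (MG u) (Nat.mod (MG u) M)) (nat_lit 40) z1 u (Nat.mod (MG u) M)) (mRel MG [T_bi, T_t] [T_d, T_bi, T_t, T_b] M (Nat.sub (MG u) (Nat.mod (MG u) M)) (nat_lit 40) z1 u (Nat.mod (MG u) M)) (Nat.ble (nat_lit 126) j)) (Nat.ble (nat_lit 125) j)) (Bool.rec (motive := fun _ => Bool) (Bool.rec (motive := fun _ => Bool) (mRel MG [T_d, T_ti, T_b, T_ti] [T_ti, T_b] M (Nat.sub (MG u) (Nat.mod (MG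 u) M)) (nat_lit 40) z1 u (Nat.mod (MG u) M)) (mRel MG [T_di, T_ti, T_b, T_t, T_bi, T_t] [] M (Nat.sub (MG u) (Nat.mod (MG u) M)) (nat_lit 40) z1 u (Nat.mod (MG u) M)) (Nat.ble (nat_lit 128) j)) (Bool.rec (motive := fun _ => Bool) (mRel MG [T_bi, T_a, T_bi, T_ai, T_b] [T_a] M (Nat.sub (MG u) (Nat.mod (MG u) M)) (nat_lit 40) z1 u (Nat.mod (MG u) M)) (Bool.rec (motive := fun _ => Bool) (mRel MG [T_ai, T_b, T_ai] [T_b, T_ai, T_b] M (Nat.sub (MG u) (Nat.mod (MG u) M)) (nat_lit 40) z1 u (Nat.mod (MG u) M)) (mRel MG [T_ai, T_d, T_t, T_ai] [T_d, T_t] M (Nat.sub (MG u) (Nat.mod (MG u) M)) (nat_lit 40) z1 u (Nat.mod (MG u) M)) (Nat.ble (nat_lit 131) j)) (Nat.ble (nat_lit 130) j)) (Nat.ble (nat_lit 129) j)) (Nat.ble (nat_lit 127) j)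
noncomputable def dM_26 (j z1 z2 u : ℕ) : Bool :=
  Bool.rec (motive := fun _ => Bool) (Bool.rec (motive := fun _ => Bool) (Bool.rec (motive := fun _ => Bool) (mRel MG [T_ci, T_a, T_c, T_a, T_ci] [T_a] M (Nat.sub (MG u) (Nat.mod (MG u) M)) (nat_lit 40) z1 u (Nat.mod (MG u) M)) (mRel MG [T_b, T_ci, T_t, T_c] [T_t, T_b] M (Nat.sub (MG u) (Nat.mod (MG u) M)) (nat_lit 40) z1 u (Nat.mod (MG u) M)) (Nat.ble (nat_lit 133) j)) (Bool.rec (motive := fun _ => Bool) (mRel MG [T_t, T_T] [T_di, T_t, T_T, T_di] M (Nat.sub (MG u) (Nat.mod (MG u) M)) (nat_lit 40) z1 u (Nat.mod (MG u) M)) (Bool.rec (motive := fun _ => Bool) (mRel MG [T_ti, T_di] [T_ai, T_ti, T_di, T_ai] M (Nat.sub (MG u) (Nat.mod (MG u) M)) (nat_lit 40) z1 u (Nat.mod (MG u) M)) (mRel MG [T_a, T_T, T_ai, T_ci] [T_ci, T_T] M (Nat.sub (MG u) (Nat.mod (MG u) M)) (nat_lit 40) z1 u (Nat.mod (MG u)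 M)) (Nat.ble (nat_lit 136) j)) (Nat.ble (nat_lit 135) j)) (Nat.ble (nat_lit 134) j)) (Bool.rec (motive := fun _ => Bool) (Bool.rec (motive := fun _ => Bool) (mRel MG [T_a, T_Ti, T_ai, T_ci] [T_ci, T_Ti] M (Nat.sub (MG u) (Nat.mod (MG u) M)) (nat_lit 40) z1 u (Nat.mod (MG u) M)) (mRel MG [T_di, T_a, T_d] [T_ai, T_di, T_a] M (Nat.sub (MG u) (Nat.mod (MG u) M)) (nat_lit 40) z1 u (Nat.mod (MG u) M)) (Nat.ble (nat_lit 138) j)) (Bool.rec (motive := fun _ => Bool) (mRel MG [T_ai, T_ci, T_a, T_c] [T_c, T_ai] M (Nat.sub (MG u) (Nat.mod (MG u) M)) (nat_lit 40) z1 u (Nat.mod (MG u) M)) (Bool.rec (motive := fun _ => Bool) (mRel MG [T_d, T_t, T_T] [T_t, T_T, T_di] M (Nat.sub (MG u) (Nat.mod (MG u) M)) (nat_lit 40) z1 u (Nat.mod (MG u) M)) (mRel MG [T_bi, T_a, T_bi] [T_a, T_bi, T_a] M (Nat.sub (MG u) (Nat.mod (MG u) M)) (nat_lit 40) z1 u (Nat.mod (MG u)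 M)) (Nat.ble (nat_lit 141) j)) (Nat.ble (nat_lit 140) j)) (Nat.ble (nat_lit 139) j)) (Nat.ble (nat_lit 137) j)
noncomputable def dM_27 (j z1 z2 u : ℕ) : Bool :=
  Bool.rec (motive := fun _ => Bool) (dM_25 j z1 z2 u) (dM_26 j z1 z2 u) (Nat.ble (nat_lit 132) j)
noncomputable def dM_28 (j z1 z2 u : ℕ) : Bool :=
  Bool.rec (motive := fun _ => Bool) (dM_24 j z1 z2 u) (dM_27 j z1 z2 u) (Nat.ble (nat_lit 123) j)
noncomputable def dM_29 (j z1 z2 u : ℕ) : Bool :=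
  Bool.rec (motive := fun _ => Bool) (dM_21 j z1 z2 u) (dM_28 j z1 z2 u) (Nat.ble (nat_lit 104) j)
noncomputable def dM_30 (j z1 z2 u : ℕ) : Bool :=
  Bool.rec (motive := fun _ => Bool) (dM_14 j z1 z2 u) (dM_29 j z1 z2 u) (Nat.ble (nat_lit 67) j)
noncomputable def dM_31 (j z1 z2 u : ℕ) : Bool :=
  Bool.rec (motive := fun _ => Bool) (dM_3 j z1 z2 u) (dM_30 j z1 z2 u) (Nat.ble (nat_lit 15) j)
noncomputable def dM_32 (j z1 z2 u : ℕ) : Bool :=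
  Bool.rec (motive := fun _ => Bool) (dM_2 j z1 z2 u) (dM_31 j z1 z2 u) (Nat.ble (nat_lit 12) j)
noncomputable def dM_33 (j z1 z2 u : ℕ) : Bool :=
  Bool.rec (motive := fun _ => Bool) (dM_1 j z1 z2 u) (dM_32 j z1 z2 u) (Nat.ble (nat_lit 9) j)
noncomputable def dM_34 (j z1 z2 u : ℕ) : Bool :=
  Bool.rec (motive := fun _ => Bool) (dM_0 j z1 z2 u) (dM_33 j z1 z2 u) (Nat.ble (nat_lit 5) j)
noncomputable def chkM (u : ℕ) : Bool :=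
  Bool.rec (motive := fun _ => Bool) (band (Nat.ble (Nat.succ (Nat.mod (MG u) M)) u) (dM_34 (Nat.land (MR u) (nat_lit 255)) (Nat.land (Nat.shiftRight (MR u) (nat_lit 8)) (nat_lit 8191)) (Nat.shiftRight (MR u) (nat_lit 21)) u)) true (Nat.ble A (MG u))
noncomputable def chkN (u : ℕ) : Bool :=
  band (chk_a (Nat.land (Nat.shiftRight (RS u) (nat_lit 0)) (nat_lit 63)) u) (band (chk_ai (Nat.land (Nat.shiftRight (RS u) (nat_lit 6)) (nat_lit 63)) u) (band (chk_b (Nat.land (Nat.shiftRight (RS u) (nat_lit 12)) (nat_lit 63)) u) (band (chk_bi (Nat.land (Nat.shiftRight (RS u) (nat_lit 18)) (nat_lit 63)) u) (band (chk_c (Nat.land (Nat.shiftRight (RS u) (nat_lit 24)) (nat_lit 63)) u) (band (chk_ci (Nat.land (Nat.shiftRight (RS u) (nat_lit 30)) (nat_lit 63)) u) (band (chk_d (Nat.land (Nat.shiftRight (RS u) (nat_lit 36)) (nat_lit 63)) u) (band (chk_di (Nat.land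 (Nat.shiftRight (RS u) (nat_lit 42)) (nat_lit 63)) u) (band (chk_t (Nat.land (Nat.shiftRight (RS u) (nat_lit 48)) (nat_lit 63)) u) (band (chk_ti (Nat.land (Nat.shiftRight (RS u) (nat_lit 54)) (nat_lit 63)) u) (band (chk_T (Nat.land (Nat.shiftRight (RS u) (nat_lit 60)) (nat_lit 63)) u) (band (chk_Ti (Nat.land (Nat.shiftRight (RS u) (nat_lit 66)) (nat_lit 63)) u) (band (chk_z (Nat.land (Nat.shiftRight (RS u) (nat_lit 72)) (nat_lit 63)) u) (band (chk_zi (Nat.land (Nat.shiftRight (RS u) (nat_lit 78)) (nat_lit 63)) u) (chkM u))))))))))))))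
noncomputable def chkP (u : ℕ) : Bool := Bool.rec (motive := fun _ => Bool) (chkN u) true (Nat.ble M u)
noncomputable def liveP (u : ℕ) : Bool := Bool.rec (motive := fun _ => Bool) (Nat.ble A (MG u)) false (Nat.ble M u)
end H35.TCMSzA
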